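import Groth.Agent.CurveRR24.DoubleCover.Ring
import Groth.Agent.CurveRR24.VeryAmpleField
import Groth.Agent.P1SC24.Reduce
import Groth.Agent.NormalExtLib.Basic
import Groth.Agent.NeronLib.NormalSmooth

/-! # Inseparable double covers by two sections do not exist -/

set_option autoImplicit false
set_option linter.style.haveILetI false
set_option backward.isDefEq.respectTransparency.types false
set_option maxHeartbeats 1000000

universe u

open CategoryTheory CategoryTheory.Limits AlgebraicGeometry Opposite TopologicalSpace Polynomial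
open Groth.Agent.Coherent Groth.Agent.PicLib Groth.Agent.AmpleLib Groth.Agent.EulerLib

namespace Groth.Agent.CurveRR24

theorem not_sq_eq_X {K : Type u} [Field K] (p : K[X]) : p ^ 2 ≠ Polynomial.X := fun h => by
  have := congrArg natDegree h
  rw [natDegree_pow, natDegree_X] at this
  omega

theorem isNormalScheme_spec_field (R : Type u) [Field R] :
    Pi1.IsNormalScheme (Spec (CommRingCat.of R)) := by
  intro x
  let S := Γ(Spec (CommRingCat.of R), ⊤)
  let eR : R ≃+* S := (Scheme.ΓSpecIso (CommRingCat.of R)).symm.commRingCatIsoToRingEquiv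
  have : IsDomain S := MulEquiv.isDomain R eR.symm.toMulEquiv
  have : IsIntegrallyClosed S := IsIntegrallyClosed.of_equiv eR
  letI := TopCat.Presheaf.algebra_section_stalk (Spec (CommRingCat.of R)).presheaf
    (⟨x, trivial⟩ : (⊤ : (Spec (CommRingCat.of R)).Opens))
  have := (isAffineOpen_top (Spec (CommRingCat.of R))).isLocalization_stalk ⟨x, trivial⟩
  let P := ((isAffineOpen_top (Spec (CommRingCat.of R))).primeIdealOf ⟨x, trivial⟩).asIdeal
  have hle := Ideal.primeCompl_le_nonZeroDivisors P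
  exact ⟨IsLocalization.isDomain_of_le_nonZeroDivisors _ hle,
    isIntegrallyClosed_of_isLocalization _ P.primeCompl hle⟩

/-- The coordinate functions of a morphism given by two sections. -/
theorem pullChart_smul {K : Type u} [Field K] {X : Scheme.{u}} {r : X ⟶ CohB1.ProjSpace 1 K} {L : X.Modules}
    (σ : Fin (1 + 1) → Γ(L, ⊤)) (τ : EmbLib24.pbO r ≅ L) (hτ : ∀ i, τ.hom.app ⊤ (EmbLib24.sig r i) = σ i)
    (j : Fin (1 + 1)) :
    pullChart r j Polynomial.X • resM L le_top (σ j) =
      resM L (le_top : r ⁻¹ᵁ EmbLib24.chart 1 K j ≤ ⊤) (σ j.rev) := by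
  have hA := congrArg (τ.hom.app (r ⁻¹ᵁ EmbLib24.chart 1 K j))
    (EmbLib24.appLE_coordFun_smul r j j.rev (r ⁻¹ᵁ EmbLib24.chart 1 K j) le_rfl)
  rw [Scheme.Modules.Hom.app_smul, app_resM, app_resM, hτ, hτ] at hA
  rw [pullChart_X, Scheme.Hom.app_eq_appLE]
  exact hA

/-- If the coordinates of a double cover have square roots, the pulled back bundle has three sections. -/
theorem three_le_h0 (K : Type u) [Field K] [CharP K 2] {X : Scheme.{u}} [X.Over (Spec (CommRingCat.of K))]
    [IsProper (X ↘ Spec (CommRingCat.of K))] [IsIntegral X] {L : X.Modules} (hL : PicF.IsInvertible L)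
    (r : X ⟶ CohB1.ProjSpace 1 K) (hr : r ≫ CohB1.ProjSpace.toSpec 1 K = X ↘ Spec (CommRingCat.of K))
    (σ : Fin (1 + 1) → Γ(L, ⊤)) (τ : EmbLib24.pbO r ≅ L) (hτ : ∀ i, τ.hom.app ⊤ (EmbLib24.sig r i) = σ i)
    [IsFinite r] [Flat r] (hn : ∀ y, Scheme.Hom.finrank r y = 2)
    (a : ∀ j, Γ(X, r ⁻¹ᵁ EmbLib24.chart 1 K j)) (ha : ∀ j, a j ^ 2 = pullChart r j Polynomial.X) :
    3 ≤ Module.finrank K (Coh.HH X L 0) := by
  haveI := isNoetherian_of_proper K (X := X)
  let U := EmbLib24.chart 1 K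
  let q := X ↘ Spec (CommRingCat.of K)
  let W := r ⁻¹ᵁ P1SC24.overlap K
  have hle : ∀ j, W ≤ r ⁻¹ᵁ U j := fun j => r.preimage_mono (P1SC24.overlap_le K j)
  have hWinf : r ⁻¹ᵁ U 0 ⊓ r ⁻¹ᵁ U 1 ≤ W := by
    show _ ≤ r ⁻¹ᵁ _
    rw [P1SC24.overlap_eq]; rfl
  have hres : ∀ j p, X.presheaf.map (homOfLE (hle j)).op (pullChart r j p) =
      r.app (P1SC24.overlap K) (P1SC24.toOverlap K j p) := fun j p =>
    (ConcreteCategory.congr_hom (r.naturality (homOfLE (P1SC24.overlap_le K j)).op) (P1SC24.chartRing K j p)).symm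
  let A : Γ(X, W) := X.presheaf.map (homOfLE (hle 0)).op (a 0)
  let B : Γ(X, W) := X.presheaf.map (homOfLE (hle 1)).op (a 1)
  have hx : X.presheaf.map (homOfLE (hle 0)).op (pullChart r 0 Polynomial.X) *
      X.presheaf.map (homOfLE (hle 1)).op (pullChart r 1 Polynomial.X) = 1 := by
    rw [hres, hres, ← map_mul, P1SC24.toOverlap_X_mul, map_one]
  have hAB : A * B = 1 := by
    have h2 : (2 : Γ(X, W)) = 0 := by
      rw [← map_ofNat (EmbLib24.gl q W) 2, CharTwo.two_eq_zero, map_zero]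
    have hsq : (A * B) ^ 2 = 1 := by rw [mul_pow, ← map_pow, ← map_pow, ha, ha, hx]
    have h0 : (A * B - 1) ^ 2 = 0 := by linear_combination hsq + h2 * (1 - A * B)
    exact sub_eq_zero.1 (IsReduced.eq_zero _ ⟨2, h0⟩)
  let t : ∀ j, Γ(L, r ⁻¹ᵁ U j) := fun j => a j • resM L le_top (σ j)
  have key : resM L (hle 0) (t 0) = resM L (hle 1) (t 1) := by
    have h01 : resM L (le_top : W ≤ ⊤) (σ 1) = A ^ 2 • resM L (le_top : W ≤ ⊤) (σ 0) := by
      have h := congrArg (resM L (hle 0)) (pullChart_smul σ τ hτ 0)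
      rw [resM_smul, resM_resM, resM_resM, show (0 : Fin (1 + 1)).rev = 1 from rfl] at h
      rw [← map_pow, ha]
      exact h.symm
    show resM L (hle 0) (a 0 • _) = resM L (hle 1) (a 1 • _)
    rw [resM_smul, resM_smul, resM_resM, resM_resM, h01, smul_smul]
    congr 1
    linear_combination -A * hAB
  obtain ⟨s, hs, -⟩ := TopCat.Sheaf.existsUnique_gluing' (⟨L.presheaf, L.isSheaf⟩ : TopCat.Sheaf Ab X)
    ![r ⁻¹ᵁ U 0, r ⁻¹ᵁ U 1] ⊤ (fun _ => homOfLE le_top)
    (by
      have : r ⁻¹ᵁ U 0 ⊔ r ⁻¹ᵁ U 1 = ⊤ := by rw [← Scheme.Hom.preimage_sup, P1SC24.chart_cover]; rfl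
      rw [← this]; exact sup_le (le_iSup_of_le 0 le_rfl) (le_iSup_of_le 1 le_rfl))
    (Fin.cons (t 0) (Fin.cons (t 1) finZeroElim)) (by
      have key' := congrArg (resM L hWinf) key
      rw [resM_resM, resM_resM] at key'
      intro i j
      fin_cases i <;> fin_cases j
      · rfl
      · exact key'
      · have h := congrArg (resM L (inf_comm (r ⁻¹ᵁ U 0) _).ge) key'
        rw [resM_resM, resM_resM] at h
        exact h.symm
      · rfl)
  have hs0 : resM L (le_top : r ⁻¹ᵁ U 0 ≤ ⊤) s = t 0 := hs 0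
  let φ := baseHom K X
  let v : Fin 3 → GA φ L := ![(show GA φ L from σ 0), (show GA φ L from σ 1), (show GA φ L from s)]
  have hind : LinearIndependent K v := by
    rw [Fintype.linearIndependent_iff]
    intro c hc
    have hc' : φ (c 0) • σ 0 + φ (c 1) • σ 1 + φ (c 2) • s = 0 := by
      have h2 : c 0 • v 0 + c 1 • v 1 + c 2 • v 2 = 0 := by rw [← hc, Fin.sum_univ_three]
      exact h2
    have h := congrArg (resM L (le_top : r ⁻¹ᵁ U 0 ≤ ⊤)) hc'
    have hφ : ∀ x : K, X.presheaf.map (homOfLE (le_top : r ⁻¹ᵁ U 0 ≤ ⊤)).op (φ x) = pullChart r 0 (C x) :=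
      fun x => (pullChart_C hr 0 x).symm
    rw [map_zero, map_add, map_add, resM_smul, resM_smul, resM_smul, hs0] at h
    erw [hφ, hφ, hφ] at h
    have hσ1 : pullChart r 0 Polynomial.X • resM L le_top (σ 0) =
        resM L (le_top : r ⁻¹ᵁ U 0 ≤ ⊤) (σ 1) := pullChart_smul σ τ hτ 0
    have hpre : r ⁻¹ᵁ U 0 = glocus L (σ 0) := by
      rw [EmbLib24.preimage_chart r 0, ← glocus_map_iso τ, hτ 0]
    have hgl : IsGen L (r ⁻¹ᵁ U 0) (resM L le_top (σ 0)) := by
      rw [hpre]; exact isGen_glocus _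
    have h1 : pullChart r 0 (C (c 0) + C (c 1) * Polynomial.X) + pullChart r 0 (C (c 2)) * a 0 = 0 := by
      refine (hgl (r ⁻¹ᵁ U 0) le_rfl).1 ?_
      beta_reduce
      rw [resM_self, zero_smul, add_smul, map_add, map_mul, add_smul, mul_smul, mul_smul, hσ1]
      exact h
    obtain ⟨hns, hinj⟩ := not_surjective_pullChart hn (r := r) 0
    have hc2 : c 2 = 0 := by
      by_contra hne
      refine not_sq_eq_X (C (c 2)⁻¹ * -(C (c 0) + C (c 1) * Polynomial.X)) (hinj ?_)
      have e : pullChart r 0 (C (c 2)⁻¹ * -(C (c 0) + C (c 1) * Polynomial.X)) = a 0 := by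
        rw [map_mul, map_neg, ← eq_neg_of_add_eq_zero_right h1, ← mul_assoc, ← map_mul, ← C_mul,
          inv_mul_cancel₀ hne, C_1, map_one, one_mul]
      rw [map_pow, e, ha]
    rw [hc2, C_0, map_zero, zero_mul, add_zero] at h1
    have hpoly := hinj (h1.trans (map_zero _).symm)
    have hc0 : c 0 = 0 := by simpa using congrArg (fun p => p.coeff 0) hpoly
    have hc1 : c 1 = 0 := by simpa using congrArg (fun p => p.coeff 1) hpoly
    exact Fin.forall_fin_succ.2 ⟨hc0, Fin.forall_fin_two.2 ⟨hc1, hc2⟩⟩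
  haveI := finite_HH_of_isCoh K (isCoh_of_isInvertible K hL) 0
  haveI : Module.Finite K (GA φ L) := Module.Finite.equiv (hhZero K L)
  have := hind.fintype_card_le_finrank
  rw [Fintype.card_fin, ← (hhZero K L).finrank_eq] at this
  exact this

/-- Squares do not all descend to the line on a smooth curve with a double cover given by two sections. -/
theorem not_forall_sq (k : Type u) [Field k] [CharP k 2] {X : Scheme.{u}} [X.Over (Spec (CommRingCat.of k))]
    [IsProper (X ↘ Spec (CommRingCat.of k))] [Smooth (X ↘ Spec (CommRingCat.of k))] [IsIntegral X]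
    (h0 : Module.finrank k (Coh.HH X (Coh.structureModule X) 0) = 1)
    {L : X.Modules} (hL : PicF.IsInvertible L) (h2 : Module.finrank k (Coh.HH X L 0) = 2)
    (r : X ⟶ CohB1.ProjSpace 1 k) (hr : r ≫ CohB1.ProjSpace.toSpec 1 k = X ↘ Spec (CommRingCat.of k))
    (σ : Fin (1 + 1) → Γ(L, ⊤)) (τ : EmbLib24.pbO r ≅ L) (hτ : ∀ i, τ.hom.app ⊤ (EmbLib24.sig r i) = σ i)
    [IsFinite r] [Flat r] (hn : ∀ y, Scheme.Hom.finrank r y = 2)
    (hall : ∀ j b, ∃ p, pullChart r j p = b ^ 2) : False := by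
  let q := X ↘ Spec (CommRingCat.of k)
  let K := AlgebraicClosure k
  haveI : CharP K 2 := charP_of_injective_algebraMap (algebraMap k K).injective 2
  let sK := Spec.map (CommRingCat.ofHom (algebraMap k K))
  let X' := pullback q sK
  let g : X' ⟶ X := pullback.fst _ _
  let _ : X'.Over (Spec (CommRingCat.of K)) := ⟨pullback.snd _ _⟩
  let q' := X' ↘ Spec (CommRingCat.of K)
  have hpb : IsPullback g q' q sK := IsPullback.of_hasPullback _ _
  haveI : IsProper q' := inferInstanceAs (IsProper (pullback.snd q sK))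
  haveI : Smooth q' := inferInstanceAs (Smooth (pullback.snd q sK))
  haveI := P1SC24.geometricallyConnected_of_h0 k h0
  haveI : ConnectedSpace X' := GeometricallyConnected.geometrically_connectedSpace (f := q) _ _ _ hpb
  haveI : IsIntegral X' := AbVarLib.isIntegral_of_smooth_connected q'
  have hnorm : Pi1.IsNormalScheme X' := NeronLib.isNormalScheme_of_smooth q' (isNormalScheme_spec_field K)
  haveI := isNoetherian_of_proper k (X := X)
  haveI := isNoetherian_of_proper K (X := X')
  let L' := (Scheme.Modules.pullback g).obj L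
  have hL' : PicF.IsInvertible L' := PicLoc.isInvertible_pullback g hL
  let σ' : Fin (1 + 1) → Γ(L', ⊤) := fun i => pullSec g (σ i)
  have hcov' : ∀ x : X', ∃ i, x ∈ glocus L' (σ' i) := fun x => by
    obtain ⟨i, hi⟩ := EmbLib24.exists_chart_mem (r (g x))
    refine ⟨i, (glocus_pullSec g hL (σ i)).ge ?_⟩
    show g x ∈ glocus L (σ i)
    rw [← hτ i, glocus_map_iso τ, ← EmbLib24.preimage_chart r i]
    exact hi
  obtain ⟨r', hr', τ', hτ'⟩ := UPLib.exists_hom_projSpace 1 q' hL' σ' hcov'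
  have hsq : r' ≫ projBC k K 1 = g ≫ r :=
    comp_projBC_eq g hpb.w hL hr τ hr' τ' fun i => (hτ' i).trans (congrArg (pullSec g) (hτ i).symm)
  have hP : IsPullback g r' r (projBC k K 1) := by
    refine IsPullback.of_bot ?_ hsq.symm (isPullback_projSpace 1 k K)
    rw [hr, hr']
    exact hpb
  haveI : IsFinite r' := MorphismProperty.of_isPullback (P := @IsFinite) hP ‹IsFinite r›
  haveI : Flat r' := MorphismProperty.of_isPullback (P := @Flat) hP ‹Flat r›
  have hn' : ∀ y, Scheme.Hom.finrank r' y = 2 := fun y => by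
    rw [Scheme.Hom.finrank_of_isPullback _ _ _ _ hP y, hn]
  have hsqr : ∀ j, ∃ a, a ^ 2 = pullChart r' j Polynomial.X := fun j => by
    let V := r' ⁻¹ᵁ EmbLib24.chart 1 K j
    obtain ⟨hns, hinj⟩ := not_surjective_pullChart hn' (r := r') j
    haveI : Nonempty V := by
      by_contra hc
      haveI : IsEmpty V := not_nonempty_iff.1 hc
      haveI : Subsingleton Γ(X', V) := CommRingCat.subsingleton_of_isTerminal (by
        rw [show V = ⊥ from eq_bot_iff.2 fun x hx => (IsEmpty.false (α := V) ⟨x, hx⟩).elim]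
        exact X'.sheaf.isTerminalOfEmpty)
      exact zero_ne_one (α := K[X]) (hinj (Subsingleton.elim _ _))
    haveI := NormalExtLib.isIntegrallyClosed_sections hnorm V
      ((EmbLib24.isAffineOpen_chart 1 K j).preimage r')
    exact exists_sq_eq_X (pullChart r' j) hinj hns
      (sq_mem_bc hpb hr hr' hsq j (hall j))
  choose a ha using hsqr
  have h3 := three_le_h0 K hL' r' hr' σ' τ' hτ' hn' a ha
  haveI := isQCoh_of_isInvertible hL
  rw [finrank_HH_bc hpb L 0, h2] at h3
  omega

end Groth.Agent.CurveRR24
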