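import Groth.Agent.CurveRR24.DoubleCover.Insep
import Groth.Agent.FiniteEt.Trace
import Mathlib.FieldTheory.PurelyInseparable.Basic
import Mathlib.RingTheory.Localization.NormTrace

/-! # The function field extension of a double cover -/

set_option autoImplicit false
set_option linter.style.haveILetI false
set_option backward.isDefEq.respectTransparency.types false
set_option maxHeartbeats 1000000

universe u

open CategoryTheory CategoryTheory.Limits AlgebraicGeometry Opposite TopologicalSpace Polynomial
open scoped nonZeroDivisors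
open Groth.Agent.Coherent Groth.Agent.PicLib Groth.Agent.AmpleLib Groth.Agent.EulerLib

namespace Groth.Agent.CurveRR24

/-- In a separable-or-not quadratic extension: separable, or characteristic two and squares descend. -/
theorem separable_or_sq {F E : Type u} [Field F] [Field E] [Algebra F E] (h : Module.finrank F E = 2) :
    Algebra.IsSeparable F E ∨ ((2 : F) = 0 ∧ ∀ x : E, ∃ y : F, algebraMap F E y = x ^ 2) := by
  haveI : FiniteDimensional F E := Module.finite_of_finrank_pos (by rw [h]; exact two_pos)
  rcases Nat.prime_two.eq_one_or_self_of_dvd _ (h ▸ Field.finSepDegree_dvd_finrank F E) with h1 | h1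
  · right
    haveI : IsPurelyInseparable F E := (isPurelyInseparable_iff_finSepDegree_eq_one F E).2 h1
    obtain ⟨q, hqF⟩ := ExpChar.exists F
    haveI := hqF
    have hq : ∀ x : E, ∃ (n : ℕ) (y : F), minpoly F x = X ^ q ^ n - C y ∧ q ^ n ≤ 2 := fun x => by
      obtain ⟨n, y, hy⟩ := IsPurelyInseparable.minpoly_eq_X_pow_sub_C F q x
      refine ⟨n, y, hy, ?_⟩
      have := minpoly.natDegree_le (A := F) x
      rwa [hy, natDegree_X_pow_sub_C, h] at this
    have hroot : ∀ (x : E) (y : F) (m : ℕ), minpoly F x = X ^ m - C y → x ^ m = algebraMap F E y :=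
      fun x y m hy => by
        have h2 := minpoly.aeval F x
        rw [hy, map_sub, map_pow, aeval_X, aeval_C] at h2
        exact sub_eq_zero.1 h2
    have hne : ∃ x : E, x ∉ Set.range (algebraMap F E) := by
      by_contra hc
      push Not at hc
      have hb : Function.Bijective (algebraMap F E) := ⟨(algebraMap F E).injective, hc⟩
      have e := (LinearEquiv.ofBijective (Algebra.linearMap F E) hb).finrank_eq
      rw [Module.finrank_self, h] at e
      omega
    obtain ⟨x, hx⟩ := hne
    obtain ⟨n, y, hy, hn⟩ := hq x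
    have hq2 : q = 2 ∧ n = 1 := by
      have hqn1 : q ^ n ≠ 1 := fun he => hx ⟨y, by rw [← hroot x y _ hy, he, pow_one]⟩
      have hn0 : n ≠ 0 := fun h0 => hqn1 (by rw [h0, pow_zero])
      have hq1 : 1 < q := by
        rcases hqF with _ | ⟨hp⟩
        · exact absurd (one_pow n) hqn1
        · exact hp.one_lt
      have h2 : q ≤ q ^ n := Nat.le_self_pow hn0 q
      have hqe : q = 2 := by omega
      refine ⟨hqe, ?_⟩
      rw [hqe] at hn
      rcases n with _ | _ | n
      · omega
      · rfl
      · exfalso; rw [pow_succ, pow_succ] at hn; have := Nat.one_le_two_pow (n := n); omega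
    obtain ⟨hq2, -⟩ := hq2
    refine ⟨?_, fun z => ?_⟩
    · have : ExpChar F 2 := hq2 ▸ hqF
      rcases this with _ | ⟨hp⟩
      exact CharP.cast_eq_zero F 2
    · obtain ⟨m, w, hw, hm⟩ := hq z
      rw [hq2] at hm hw
      rcases m with _ | _ | m
      · exact ⟨w ^ 2, by rw [map_pow, ← hroot z w _ hw, pow_zero, pow_one]⟩
      · exact ⟨w, by rw [← hroot z w _ hw, pow_one]⟩
      · exfalso; rw [pow_succ, pow_succ] at hm; have := Nat.one_le_two_pow (n := m); omega
  · left
    exact (Field.finSepDegree_eq_finrank_iff F E).1 (h1.trans h.symm)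

/-- The sections over an affine open have the residue field at the generic point as fraction field. -/
theorem isFractionRing_evaluation {Y : Scheme.{u}} [IsIntegral Y] {U : Y.Opens} (hU : IsAffineOpen U) {y : Y}
    (hy : y ∈ U) (he : y = genericPoint Y) :
    letI := (Y.evaluation U y hy).hom.toAlgebra
    IsFractionRing Γ(Y, U) (Y.residueField y) := by
  subst he
  haveI : Nonempty U := ⟨⟨_, hy⟩⟩
  haveI hf := functionField_isFractionRing_of_isAffineOpen Y U hU
  let _ : Algebra Γ(Y, U) (Y.residueField (genericPoint Y)) := (Y.evaluation U _ hy).hom.toAlgebra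
  have hb : Function.Bijective (Y.residue (genericPoint Y)) :=
    ⟨fun a b h => (Y.residue (genericPoint Y)).hom.injective (R := Y.functionField) h,
      IsLocalRing.residue_surjective⟩
  refine IsLocalization.isLocalization_of_algEquiv (Γ(Y, U))⁰ (S := Y.functionField)
    { RingEquiv.ofBijective (Y.residue (genericPoint Y)).hom hb with commutes' := fun a => rfl }

variable {k : Type u} [Field k] {X : Scheme.{u}} [IsIntegral X] (r : X ⟶ CohB1.ProjSpace 1 k)

theorem map_generic_mem [IsFinite r] (hdim : topologicalKrullDim X = 1) (j : Fin (1 + 1)) :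
    genericPoint X ∈ r ⁻¹ᵁ EmbLib24.chart 1 k j := by
  haveI := CurveLib.isIntegral_projSpace k 1
  show r (genericPoint X) ∈ EmbLib24.chart 1 k j
  rw [genericPoint_map_of_finite r hdim (DimLib.PN.topologicalKrullDim_projSpace 1 k).le]
  obtain ⟨z, hz⟩ : ∃ z, z ∈ EmbLib24.chart 1 k j := by
    by_contra hcon
    push Not at hcon
    haveI : Subsingleton Γ(CohB1.ProjSpace 1 k, EmbLib24.chart 1 k j) :=
      CommRingCat.subsingleton_of_isTerminal (by
        rw [show EmbLib24.chart 1 k j = ⊥ from eq_bot_iff.2 fun x hx => (hcon x hx).elim]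
        exact (CohB1.ProjSpace 1 k).sheaf.isTerminalOfEmpty)
    exact zero_ne_one (α := Polynomial k) ((P1SC24.bijective_chartRing k j).1 (Subsingleton.elim _ _))
  exact (genericPoint_specializes z).mem_open (EmbLib24.chart 1 k j).2 hz

/-- Residue degree two, and a dichotomy: separable and etale on an open, or all squares descend. -/
theorem residueDegree_and_separable [IsFinite r] [Flat r] (hdim : topologicalKrullDim X = 1)
    (hn : ∀ y, Scheme.Hom.finrank r y = 2) :
    r.residueDegree (genericPoint X) = 2 ∧
      ((letI := (r.residueFieldMap (genericPoint X)).hom.toAlgebra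
        Algebra.IsSeparable ((CohB1.ProjSpace 1 k).residueField (r (genericPoint X))) (X.residueField (genericPoint X))) ∧
        (∃ V : X.Opens, (V : Set X).Nonempty ∧ Etale (V.ι ≫ r)) ∨
      (2 : k) = 0 ∧ ∀ j b, ∃ p, pullChart r j p = b ^ 2) := by
  classical
  haveI := CurveLib.isIntegral_projSpace k 1
  let P := CohB1.ProjSpace 1 k
  let η := genericPoint X
  have hη : r η = genericPoint P :=
    genericPoint_map_of_finite r hdim (DimLib.PN.topologicalKrullDim_projSpace 1 k).le
  let κY := P.residueField (r η)
  let κX := X.residueField η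
  let _ : Algebra κY κX := (r.residueFieldMap η).hom.toAlgebra
  suffices key : ∀ j, Module.finrank κY κX = 2 ∧
      (Algebra.IsSeparable κY κX → ∃ V : X.Opens, (V : Set X).Nonempty ∧ Etale (V.ι ≫ r)) ∧
      ((∀ x : κX, ∃ y : κY, algebraMap κY κX y = x ^ 2) → ∀ b, ∃ p, pullChart r j p = b ^ 2) by
    refine ⟨(key 0).1, ?_⟩
    rcases separable_or_sq (key 0).1 with h | ⟨h2, h⟩
    · exact Or.inl ⟨h, (key 0).2.1 h⟩
    · refine Or.inr ⟨?_, fun j => (key j).2.2 h⟩
      have := ((P.evaluation _ (r η) (map_generic_mem r hdim 0)).hom.comp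
        ((P1SC24.chartRing k 0).comp Polynomial.C)).injective
      exact this (by rw [map_ofNat, map_zero]; exact h2)
  intro j
  let U := EmbLib24.chart 1 k j
  let B := Γ(X, r ⁻¹ᵁ U)
  have hU := EmbLib24.isAffineOpen_chart 1 k j
  have hmem : η ∈ r ⁻¹ᵁ U := map_generic_mem r hdim j
  let _ : Algebra k[X] B := (pullChart r j).toAlgebra
  let _ : Algebra B κX := (X.evaluation (r ⁻¹ᵁ U) η hmem).hom.toAlgebra
  let _ : Algebra k[X] κY := ((P.evaluation U (r η) hmem).hom.comp (P1SC24.chartRing k j)).toAlgebra
  let _ : Algebra k[X] κX := ((X.evaluation (r ⁻¹ᵁ U) η hmem).hom.comp (pullChart r j)).toAlgebra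
  haveI : IsScalarTower k[X] B κX := IsScalarTower.of_algebraMap_eq fun _ => rfl
  haveI : IsScalarTower k[X] κY κX := IsScalarTower.of_algebraMap_eq fun p =>
    (Scheme.evaluation_naturality_apply r η hmem (P1SC24.chartRing k j p)).symm
  haveI : IsFractionRing B κX := isFractionRing_evaluation (hU.preimage r) hmem rfl
  haveI hY : IsFractionRing k[X] κY := by
    let _ : Algebra Γ(P, U) κY := (P.evaluation U (r η) hmem).hom.toAlgebra
    haveI : IsFractionRing Γ(P, U) κY := isFractionRing_evaluation hU hmem hη
    haveI : FaithfulSMul k[X] κY := (faithfulSMul_iff_algebraMap_injective _ _).2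
      ((IsFractionRing.injective Γ(P, U) κY).comp (P1SC24.bijective_chartRing k j).1)
    refine IsFractionRing.of_field k[X] κY fun z => ?_
    obtain ⟨a, b, -, rfl⟩ := IsFractionRing.div_surjective Γ(P, U) z
    obtain ⟨a, rfl⟩ := (P1SC24.bijective_chartRing k j).2 a
    obtain ⟨b, rfl⟩ := (P1SC24.bijective_chartRing k j).2 b
    exact ⟨a, b, rfl⟩
  obtain ⟨hrank, hfree, hfin⟩ := finrank_pullChart hn (r := r) j
  obtain ⟨-, hinj⟩ := not_surjective_pullChart hn (r := r) j
  haveI : Module.Finite k[X] B := hfin
  haveI : Module.Free k[X] B := hfree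
  haveI : Nonempty (r ⁻¹ᵁ U) := ⟨⟨η, hmem⟩⟩
  haveI : IsDomain B := inferInstance
  haveI : FaithfulSMul k[X] B := (faithfulSMul_iff_algebraMap_injective _ _).2 hinj
  haveI : Algebra.IsAlgebraic k[X] B := Algebra.IsAlgebraic.of_finite k[X] B
  have hfr : Module.finrank κY κX = 2 := (IsFractionRing.finrank_eq k[X] κY B κX).trans hrank
  refine ⟨hfr, fun hsep => ?_, fun hsq b => ?_⟩
  · let b := (Module.finBasisOfFinrankEq k[X] B hrank)
    haveI : FiniteDimensional κY κX := Module.finite_of_finrank_pos (by rw [hfr]; exact two_pos)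
    let d := Algebra.discr k[X] b
    have hd : algebraMap k[X] κY d ≠ 0 := by
      rw [← Algebra.discr_localizationLocalization k[X] (k[X])⁰ κX b]
      exact Algebra.discr_not_zero_of_basis κY _
    let s := P1SC24.chartRing k j d
    let D := P.basicOpen s
    let W := r ⁻¹ᵁ D
    have hηW : η ∈ W := by
      show r η ∈ P.basicOpen s
      rw [Scheme.mem_basicOpen P s (r η) hmem]
      by_contra hu
      refine hd ((P.residue (r η)).hom.map_zero ▸ ?_)
      show P.residue (r η) (P.presheaf.germ U (r η) hmem s) = P.residue (r η) 0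
      rw [map_zero]
      exact (IsLocalRing.residue_eq_zero_iff _).2 hu
    refine ⟨W, ⟨η, hηW⟩, ?_⟩
    have hD : IsAffineOpen D := hU.basicOpen s
    suffices he : Etale (r ∣_ D) by
      rw [show W.ι ≫ r = (r ∣_ D) ≫ D.ι from (morphismRestrict_ι r D).symm]
      haveI := he
      infer_instance
    haveI : IsAffine (D : Scheme.{u}) := hD
    haveI : IsAffine (W : Scheme.{u}) := hD.preimage r
    rw [HasRingHomProperty.iff_of_isAffine (P := @Etale), morphismRestrict_appTop]
    refine RingHom.Etale.respectsIso.1 _ ((X.presheaf.mapIso (eqToIso (by simp [W])).op).commRingCatIsoToRingEquiv) ?_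
    suffices h : ∀ D' : P.Opens, D' = D → (r.app D').hom.Etale by exact h _ (by simp)
    rintro _ rfl
    let _ : Algebra Γ(P, D) Γ(X, W) := (r.app D).hom.toAlgebra
    let _ : Algebra k[X] Γ(P, D) :=
      ((P.presheaf.map (homOfLE (P.basicOpen_le s)).op).hom.comp (P1SC24.chartRing k j)).toAlgebra
    let _ : Algebra B Γ(X, W) := (X.presheaf.map (homOfLE (r.preimage_mono (P.basicOpen_le s))).op).hom.toAlgebra
    let _ : Algebra k[X] Γ(X, W) := ((r.app D).hom.comp (algebraMap k[X] Γ(P, D))).toAlgebra
    haveI : IsScalarTower k[X] Γ(P, D) Γ(X, W) := IsScalarTower.of_algebraMap_eq fun _ => rfl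
    haveI : IsScalarTower k[X] B Γ(X, W) := IsScalarTower.of_algebraMap_eq fun p =>
      ConcreteCategory.congr_hom (r.naturality (homOfLE (P.basicOpen_le s)).op) (P1SC24.chartRing k j p)
    haveI hloc : IsLocalization.Away d Γ(P, D) := by
      have h0 := hU.isLocalization_of_eq_basicOpen s (homOfLE (P.basicOpen_le s)) rfl
      let _ := (P.presheaf.map (homOfLE (P.basicOpen_le s)).op).hom.toAlgebra
      have h := @IsLocalization.isLocalization_of_base_ringEquiv _ _
        (Submonoid.powers s) Γ(P, D) _ _ _ _ h0
        (RingEquiv.ofBijective (P1SC24.chartRing k j) (P1SC24.bijective_chartRing k j)).symm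
      rw [Submonoid.map_powers] at h
      convert h using 2
      · exact ((RingEquiv.ofBijective (P1SC24.chartRing k j) (P1SC24.bijective_chartRing k j)).symm_apply_apply d).symm
      · exact RingHom.ext fun p => by rfl
    haveI : IsLocalization (Algebra.algebraMapSubmonoid B (Submonoid.powers d)) Γ(X, W) := by
      rw [Algebra.algebraMapSubmonoid, Submonoid.map_powers]
      exact (hU.preimage r).isLocalization_of_eq_basicOpen (pullChart r j d)
        (homOfLE (r.preimage_mono (P.basicOpen_le s))) (Scheme.preimage_basicOpen r s)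
    let e := (b.localizationLocalization Γ(P, D) (Submonoid.powers d) Γ(X, W)).reindex Equiv.ulift.{u}.symm
    haveI : Module.Finite Γ(P, D) Γ(X, W) := Module.Finite.of_basis e
    haveI : Module.Free Γ(P, D) Γ(X, W) := Module.Free.of_basis e
    rw [show (r.app D).hom = algebraMap Γ(P, D) Γ(X, W) from rfl, RingHom.etale_algebraMap]
    refine (FiniteEt.isUnit_det_iff_etale Γ(P, D) Γ(X, W) e).1 ?_
    rw [← Algebra.discr_def, Module.Basis.coe_reindex, Algebra.discr_reindex, Algebra.discr_localizationLocalization]
    exact IsLocalization.map_units _ ⟨d, Submonoid.mem_powers d⟩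
  · obtain ⟨y, hy⟩ := hsq (algebraMap B κX b)
    have hint : IsIntegral k[X] y := by
      refine (isIntegral_algebraMap_iff (algebraMap κY κX).injective).1 ?_
      rw [hy, ← map_pow]
      exact (Algebra.IsIntegral.isIntegral (b ^ 2)).algebraMap
    obtain ⟨p, rfl⟩ := IsIntegrallyClosed.isIntegral_iff.1 hint
    refine ⟨p, IsFractionRing.injective B κX ?_⟩
    rw [map_pow, ← hy, ← IsScalarTower.algebraMap_apply k[X] κY κX]
    rfl

end Groth.Agent.CurveRR24
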