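import Groth.Agent.CurveRR24.DoubleCover.Sep
import Groth.Agent.CurveRR24.AlgClosed

/-! # Double covers of the line from degree two modules -/

set_option autoImplicit false
set_option linter.style.haveILetI false
set_option backward.isDefEq.respectTransparency.types false
set_option maxHeartbeats 1000000

universe u

open CategoryTheory CategoryTheory.Limits AlgebraicGeometry Opposite TopologicalSpace Polynomial
open scoped nonZeroDivisors
open Groth.Agent.Coherent Groth.Agent.PicLib Groth.Agent.AmpleLib Groth.Agent.EulerLib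

namespace Groth.Agent.CurveRR24

variable (k : Type u) [Field k] {X : Scheme.{u}} [X.Over (Spec (CommRingCat.of k))]
  [IsProper (X ↘ Spec (CommRingCat.of k))] [IsIntegral X] [Smooth (X ↘ Spec (CommRingCat.of k))]

/-- A degree two invertible module with two sections gives a separable double cover. -/
theorem exists_separable_double_cover (hdim : topologicalKrullDim X = 1)
    (h0 : Module.finrank k (Coh.HH X (Coh.structureModule X) 0) = 1) (hg : 1 ≤ Curv2.genus k X)
    {L : X.Modules} (hL : PicF.IsInvertible L) (hdeg : Curv2.deg k X L 1 = 2)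
    (h2 : Module.finrank k (Coh.HH X L 0) = 2) :
    ∃ f : X ⟶ CohB1.ProjSpace 1 k, f ≫ CohB1.ProjSpace.toSpec 1 k = X ↘ Spec (CommRingCat.of k) ∧
      IsFinite f ∧ Flat f ∧ (∀ y, Scheme.Hom.finrank f y = 2) ∧ f.residueDegree (genericPoint X) = 2 ∧
      (letI := (f.residueFieldMap (genericPoint X)).hom.toAlgebra
       Algebra.IsSeparable ((CohB1.ProjSpace 1 k).residueField (f (genericPoint X))) (X.residueField (genericPoint X))) ∧
      ∃ V : X.Opens, (V : Set X).Nonempty ∧ Etale (V.ι ≫ f) := by
  have hN : Pi1.IsNormalScheme X :=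
    NeronLib.isNormalScheme_of_smooth (X ↘ Spec (CommRingCat.of k)) (isNormalScheme_spec_field k)
  obtain ⟨r, σ, τ, hr, hτ, -, -, hfin, hflat, hn⟩ := exists_double_cover k hdim hN h0 hg hL hdeg h2
  obtain ⟨hres, h⟩ := residueDegree_and_separable r hdim hn
  rcases h with ⟨hsep, hV⟩ | ⟨htwo, hall⟩
  · exact ⟨r, hr, hfin, hflat, hn, hres, hsep, hV⟩
  · haveI : CharP k 2 := CharTwo.of_one_ne_zero_of_two_eq_zero one_ne_zero htwo
    exact (not_forall_sq k h0 hL h2 r hr σ τ hτ hn hall).elim

omit [IsProper (X ↘ Spec (CommRingCat.of k))] [Smooth (X ↘ Spec (CommRingCat.of k))] [X.Over (Spec (CommRingCat.of k))] in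
/-- The residue degree at the generic point is the rank. -/
theorem residueDegree_eq_finrank (r : X ⟶ CohB1.ProjSpace 1 k) [IsFinite r] [Flat r]
    (hdim : topologicalKrullDim X = 1) {n : ℕ} (hn : ∀ y, Scheme.Hom.finrank r y = n) :
    r.residueDegree (genericPoint X) = n ∧ Function.Injective (pullChart r 0) := by
  haveI := CurveLib.isIntegral_projSpace k 1
  let P := CohB1.ProjSpace 1 k
  let η := genericPoint X
  have hη : r η = genericPoint P :=
    genericPoint_map_of_finite r hdim (DimLib.PN.topologicalKrullDim_projSpace 1 k).le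
  let κY := P.residueField (r η)
  let κX := X.residueField η
  let _ : Algebra κY κX := (r.residueFieldMap η).hom.toAlgebra
  let U := EmbLib24.chart 1 k 0
  let B := Γ(X, r ⁻¹ᵁ U)
  have hU := EmbLib24.isAffineOpen_chart 1 k 0
  have hmem : η ∈ r ⁻¹ᵁ U := map_generic_mem r hdim 0
  let _ : Algebra k[X] B := (pullChart r 0).toAlgebra
  let _ : Algebra B κX := (X.evaluation (r ⁻¹ᵁ U) η hmem).hom.toAlgebra
  let _ : Algebra k[X] κY := ((P.evaluation U (r η) hmem).hom.comp (P1SC24.chartRing k 0)).toAlgebra
  let _ : Algebra k[X] κX := ((X.evaluation (r ⁻¹ᵁ U) η hmem).hom.comp (pullChart r 0)).toAlgebra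
  haveI : IsScalarTower k[X] B κX := IsScalarTower.of_algebraMap_eq fun _ => rfl
  haveI : IsScalarTower k[X] κY κX := IsScalarTower.of_algebraMap_eq fun p =>
    (Scheme.evaluation_naturality_apply r η hmem (P1SC24.chartRing k 0 p)).symm
  haveI : IsFractionRing B κX := isFractionRing_evaluation (hU.preimage r) hmem rfl
  let _ : Algebra Γ(P, U) κY := (P.evaluation U (r η) hmem).hom.toAlgebra
  haveI : IsFractionRing Γ(P, U) κY := isFractionRing_evaluation hU hmem hη
  haveI hf : FaithfulSMul k[X] κY := (faithfulSMul_iff_algebraMap_injective _ _).2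
    ((IsFractionRing.injective Γ(P, U) κY).comp (P1SC24.bijective_chartRing k 0).1)
  haveI hY : IsFractionRing k[X] κY := by
    refine IsFractionRing.of_field k[X] κY fun z => ?_
    obtain ⟨a, b, -, rfl⟩ := IsFractionRing.div_surjective Γ(P, U) z
    obtain ⟨a, rfl⟩ := (P1SC24.bijective_chartRing k 0).2 a
    obtain ⟨b, rfl⟩ := (P1SC24.bijective_chartRing k 0).2 b
    exact ⟨a, b, rfl⟩
  haveI hfs : FaithfulSMul k[X] B := by
    rw [faithfulSMul_iff_algebraMap_injective]
    refine Function.Injective.of_comp (f := algebraMap B κX) ?_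
    rw [← RingHom.coe_comp, ← IsScalarTower.algebraMap_eq, IsScalarTower.algebraMap_eq k[X] κY κX, RingHom.coe_comp]
    exact (algebraMap κY κX).injective.comp (IsFractionRing.injective k[X] κY)
  obtain ⟨hrank, hfree, hfin⟩ := finrank_pullChart hn (r := r) 0
  haveI : Module.Finite k[X] B := hfin
  haveI : Nonempty (r ⁻¹ᵁ U) := ⟨⟨η, hmem⟩⟩
  haveI : Algebra.IsAlgebraic k[X] B := Algebra.IsAlgebraic.of_finite k[X] B
  exact ⟨(IsFractionRing.finrank_eq k[X] κY B κX).trans hrank, FaithfulSMul.algebraMap_injective k[X] B⟩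

/-- A double cover of the line gives a degree two module with two sections. -/
theorem exists_deg_two_of_double_cover (hdim : topologicalKrullDim X = 1)
    (h0 : Module.finrank k (Coh.HH X (Coh.structureModule X) 0) = 1) (hg : 1 ≤ Curv2.genus k X)
    (f : X ⟶ CohB1.ProjSpace 1 k) (hf : f ≫ CohB1.ProjSpace.toSpec 1 k = X ↘ Spec (CommRingCat.of k))
    [IsFinite f] (hres : f.residueDegree (genericPoint X) = 2) :
    ∃ L : X.Modules, PicF.IsInvertible L ∧ Curv2.deg k X L 1 = 2 ∧ Module.finrank k (Coh.HH X L 0) = 2 := by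
  haveI := CurveLib.isIntegral_projSpace k 1
  haveI : IsProper (CohB1.ProjSpace.toSpec 1 k) := CurveLib.isProper_projSpace k 1
  haveI : IsProper ((CohB1.ProjSpace 1 k) ↘ Spec (CommRingCat.of k)) :=
    inferInstanceAs (IsProper (CohB1.ProjSpace.toSpec 1 k))
  haveI : Flat f := flat_of_finite k f hdim
  haveI : LocallyOfFinitePresentation f := by
    haveI := isNoetherian_of_proper k (X := CohB1.ProjSpace 1 k)
    exact CohBC.locallyOfFinitePresentation_of_isLocallyNoetherian f
  have hconst : ∀ y, Scheme.Hom.finrank f y = Scheme.Hom.finrank f (genericPoint (CohB1.ProjSpace 1 k)) :=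
    fun y => f.isLocallyConstant_finrank.apply_eq_of_preconnectedSpace y _
  obtain ⟨hr, hinj⟩ := residueDegree_eq_finrank k f hdim hconst
  have hn : Scheme.Hom.finrank f (genericPoint (CohB1.ProjSpace 1 k)) = 2 := hr.symm.trans hres
  let L := EmbLib24.pbO f
  have hL : PicF.IsInvertible L := PicLoc.isInvertible_pullback f (isInvertible_twist_one k)
  have hdeg : Curv2.deg k X L 1 = 2 := by
    have h := deg_pullback k f hf (DimLib.PN.topologicalKrullDim_projSpace 1 k).le (isInvertible_twist_one k)
      (genericPoint (CohB1.ProjSpace 1 k))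
    rw [deg_twist_one, mul_one, hn] at h
    exact_mod_cast h
  refine ⟨L, hL, hdeg, le_antisymm ?_ ?_⟩
  · let q := X ↘ Spec (CommRingCat.of k)
    let K := AlgebraicClosure k
    let sK := Spec.map (CommRingCat.ofHom (algebraMap k K))
    let X' := pullback q sK
    let g : X' ⟶ X := pullback.fst _ _
    let _ : X'.Over (Spec (CommRingCat.of K)) := ⟨pullback.snd _ _⟩
    let q' := X' ↘ Spec (CommRingCat.of K)
    have hpb : IsPullback g q' q sK := IsPullback.of_hasPullback _ _
    haveI : IsProper q' := inferInstanceAs (IsProper (pullback.snd q sK))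
    haveI : Smooth q' := inferInstanceAs (Smooth (pullback.snd q sK))
    haveI := P1SC24.geometricallyConnected_of_h0 k h0
    haveI : ConnectedSpace X' := GeometricallyConnected.geometrically_connectedSpace (f := q) _ _ _ hpb
    haveI : IsIntegral X' := AbVarLib.isIntegral_of_smooth_connected q'
    haveI := isNoetherian_of_proper k (X := X)
    haveI := isQCoh_of_isInvertible hL
    have hdim' : topologicalKrullDim X' = 1 := (DimLib.topologicalKrullDim_bc q K).trans hdim
    have h := h0_le_deg K hdim'.le (by rw [genus_bc hpb]; exact hg) (PicLoc.isInvertible_pullback g hL)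
      (by rw [deg_bc hpb, hdeg]; exact two_pos)
    rw [finrank_HH_bc hpb L 0, deg_bc hpb, hdeg] at h
    exact_mod_cast h
  · let φ := baseHom k X
    let U := EmbLib24.chart 1 k 0
    let v : Fin 2 → GA φ L := fun i => (show GA φ L from EmbLib24.sig f i)
    have hind : LinearIndependent k v := by
      rw [Fintype.linearIndependent_iff]
      intro c hc
      have hc' : φ (c 0) • EmbLib24.sig f 0 + φ (c 1) • EmbLib24.sig f 1 = 0 := by
        rw [Fin.sum_univ_two] at hc; exact hc
      have h := congrArg (resM L (le_top : f ⁻¹ᵁ U ≤ ⊤)) hc'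
      rw [map_zero, map_add, resM_smul, resM_smul] at h
      have hσ1 : pullChart f 0 Polynomial.X • resM L le_top (EmbLib24.sig f 0) =
          resM L (le_top : f ⁻¹ᵁ U ≤ ⊤) (EmbLib24.sig f 1) :=
        pullChart_smul (EmbLib24.sig f) (Iso.refl _) (fun _ => rfl) 0
      have hφ : ∀ x : k, X.presheaf.map (homOfLE (le_top : f ⁻¹ᵁ U ≤ ⊤)).op (φ x) = pullChart f 0 (C x) :=
        fun x => (pullChart_C hf 0 x).symm
      erw [hφ, hφ] at h
      have hgl : IsGen L (f ⁻¹ᵁ U) (resM L le_top (EmbLib24.sig f 0)) := by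
        rw [EmbLib24.preimage_chart f 0]; exact isGen_glocus _
      have h1 : pullChart f 0 (C (c 0) + C (c 1) * Polynomial.X) = 0 := by
        refine (hgl (f ⁻¹ᵁ U) le_rfl).1 ?_
        beta_reduce
        rw [resM_self, zero_smul, map_add, map_mul, add_smul, mul_smul, hσ1]
        exact h
      have hp := hinj (h1.trans (map_zero _).symm)
      refine Fin.forall_fin_two.2 ⟨?_, ?_⟩
      · simpa using congrArg (fun p => p.coeff 0) hp
      · simpa using congrArg (fun p => p.coeff 1) hp
    haveI := isNoetherian_of_proper k (X := X)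
    haveI := finite_HH_of_isCoh k (isCoh_of_isInvertible k hL) 0
    haveI : Module.Finite k (GA φ L) := Module.Finite.equiv (hhZero k L)
    have := hind.fintype_card_le_finrank
    rw [Fintype.card_fin, ← (hhZero k L).finrank_eq] at this
    exact this

end Groth.Agent.CurveRR24
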