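import Groth.Agent.CurveRR24.DoubleCover.EquationAlg
import Groth.Agent.CurveRR24.DoubleCover.Insep
import Groth.Agent.CurveRR24.DoubleCover.Sep
import Groth.Agent.CurveRR24.TwoAffineH1
import Groth.Agent.P1SC24.Cover
import Groth.Agent.QCohLoc.Unit
import Groth.Agent.NormalExtLib.Basic
import Mathlib.AlgebraicGeometry.FunctionField

/-!
# Weierstrass form of a double cover of the projective line

For `f : X → ℙ¹` finite flat of rank two with `X` normal and `H⁰(X, O) = k` there are `y` over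
`U₀` and `z` over `U₁` with `z = y / x ^ (g + 1)` giving bases `1, y` and `1, z` of the chart rings.
-/

set_option autoImplicit false
set_option linter.style.haveILetI false
set_option backward.isDefEq.respectTransparency.types false
set_option maxHeartbeats 1000000

universe u

open CategoryTheory CategoryTheory.Limits AlgebraicGeometry Opposite TopologicalSpace Polynomial
open Groth.Agent.Coherent Groth.Agent.EulerLib

namespace Groth.Agent.CurveRR24

variable {k : Type u} [Field k] {X : Scheme.{u}}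

/-- Compatible functions on the two opens of a cover are constant when `H⁰(X, O) = k`. -/
theorem exists_const_of_agree [X.Over (Spec (CommRingCat.of k))] [IsIntegral X]
    (h0 : Module.finrank k (Coh.HH X (Coh.structureModule X) 0) = 1) {U V : X.Opens} (h : U ⊔ V = ⊤)
    (a : Γ(X, U)) (b : Γ(X, V))
    (he : X.presheaf.map (homOfLE (inf_le_left : U ⊓ V ≤ U)).op a =
      X.presheaf.map (homOfLE (inf_le_right : U ⊓ V ≤ V)).op b) :
    ∃ c, a = EmbLib24.gl (X ↘ Spec (CommRingCat.of k)) U c := by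
  let φ := baseHom k X
  let O := Coh.structureModule X
  obtain ⟨x, hx⟩ := (exact_mvRes_mvDiff φ O U V 0 ((secO φ U).symm a, (secO φ V).symm b)).1 (by
    refine (secO φ (U ⊓ V)).injective ?_
    rw [mvDiff, LinearMap.coprod_apply, LinearMap.neg_apply, ← sub_eq_add_neg, map_sub, secO_res, secO_res,
      AddEquiv.apply_symm_apply, AddEquiv.apply_symm_apply, he, sub_self, map_zero])
  have hdim : Module.finrank k (HA φ O (⊤ : X.Opens) 0) = 1 := by
    rw [← (HHBaseEquiv k O 0).finrank_eq]; exact h0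
  have hne : (secO φ ⊤).symm 1 ≠ 0 := by
    rw [(secO φ ⊤).symm.map_ne_zero_iff]
    exact one_ne_zero
  obtain ⟨c, hc⟩ := exists_smul_eq_of_finrank_eq_one hdim hne (resA φ O h.ge 0 x)
  refine ⟨c, ?_⟩
  have hx1 : resA φ O le_sup_left 0 x = (secO φ U).symm a := congrArg Prod.fst hx
  have e : resA φ O (le_top : U ≤ ⊤) 0 (resA φ O h.ge 0 x) = resA φ O le_sup_left 0 x :=
    resH_resH (X := X.toTopCat) 0 _ _ x
  rw [← hc, map_smul, hx1] at e
  have := congrArg (secO φ U) e
  rw [secO_smul, secO_res, AddEquiv.apply_symm_apply, AddEquiv.apply_symm_apply, map_one, mul_one] at this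
  exact this.symm

variable (f : X ⟶ CohB1.ProjSpace 1 k)

/-- The common part of the two chart preimages. -/
noncomputable abbrev ovl : X.Opens := f ⁻¹ᵁ EmbLib24.chart 1 k 0 ⊓ f ⁻¹ᵁ EmbLib24.chart 1 k 1

theorem ovl_le (j : Fin (1 + 1)) : ovl f ≤ f ⁻¹ᵁ EmbLib24.chart 1 k j := by
  fin_cases j
  · exact inf_le_left
  · exact inf_le_right

theorem ovl_eq : ovl f = f ⁻¹ᵁ P1SC24.overlap k := by
  rw [P1SC24.overlap_eq]
  rfl

/-- Restriction to the common part. -/
noncomputable def toOvl (j : Fin (1 + 1)) : Γ(X, f ⁻¹ᵁ EmbLib24.chart 1 k j) →+* Γ(X, ovl f) :=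
  (X.presheaf.map (homOfLE (ovl_le f j)).op).hom

/-- The chart polynomial ring in the functions on the common part. -/
noncomputable def ovlHom (j : Fin (1 + 1)) : k[X] →+* Γ(X, ovl f) := (toOvl f j).comp (pullChart f j)

theorem ovlHom_eq (j : Fin (1 + 1)) (p : k[X]) :
    ovlHom f j p = f.appLE _ (ovl f) (ovl_eq f).le (P1SC24.toOverlap k j p) := by
  simp only [ovlHom, toOvl, pullChart, RingHom.comp_apply, P1SC24.toOverlap, Scheme.Hom.app_eq_appLE]
  rw [← ConcreteCategory.comp_apply, ← ConcreteCategory.comp_apply, Scheme.Hom.map_appLE, Scheme.Hom.appLE_map]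

theorem ovlHom_X : ovlHom f 0 Polynomial.X * ovlHom f 1 Polynomial.X = 1 := by
  rw [ovlHom_eq, ovlHom_eq, ← map_mul, P1SC24.toOverlap_X_mul, map_one]

variable [X.Over (Spec (CommRingCat.of k))]

theorem ovlHom_C (hf : f ≫ CohB1.ProjSpace.toSpec 1 k = X ↘ Spec (CommRingCat.of k)) (j : Fin (1 + 1)) (c : k) :
    ovlHom f j (Polynomial.C c) = EmbLib24.gl (X ↘ Spec (CommRingCat.of k)) (ovl f) c := by
  rw [ovlHom, RingHom.comp_apply, pullChart_C hf]
  exact EmbLib24.res_gl _ _ c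

omit [X.Over (Spec (CommRingCat.of k))] in
theorem exists_pow_mul [IsAffineHom f] (j : Fin (1 + 1)) (w : Γ(X, ovl f)) :
    ∃ n b, ovlHom f j Polynomial.X ^ n * w = toOvl f j b := by
  have hV : IsAffineOpen (f ⁻¹ᵁ EmbLib24.chart 1 k j) := (EmbLib24.isAffineOpen_chart 1 k j).preimage f
  let i := homOfLE (ovl_le f j)
  let _ := (toOvl f j).toAlgebra
  haveI : IsLocalization.Away (pullChart f j Polynomial.X) Γ(X, ovl f) :=
    hV.isLocalization_of_eq_basicOpen (pullChart f j Polynomial.X) i ((ovl_eq f).trans (P1SC24.preimage_overlap f j))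
  obtain ⟨⟨b, ⟨_, n, rfl⟩⟩, h⟩ := IsLocalization.surj (Submonoid.powers (pullChart f j Polynomial.X)) w
  refine ⟨n, b, ?_⟩
  rw [ovlHom, RingHom.comp_apply, ← map_pow, mul_comm]
  exact h

/-- Generators `y`, `z` of the two chart rings of a double cover, with `z = y / x ^ (g + 1)`. -/
structure NormalForm (g : ℕ) where
  y : Γ(X, f ⁻¹ᵁ EmbLib24.chart 1 k 0)
  z : Γ(X, f ⁻¹ᵁ EmbLib24.chart 1 k 1)
  indep_y : Indep2 (pullChart f 0) y
  indep_z : Indep2 (pullChart f 1) z
  span_y : ∀ w, InSpan2 (pullChart f 0) y w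
  span_z : ∀ w, InSpan2 (pullChart f 1) z w
  rel : toOvl f 1 z = ovlHom f 1 Polynomial.X ^ (g + 1) * toOvl f 0 y
  indep : Indep2 (ovlHom f 0) (toOvl f 0 y)

variable [IsIntegral X]

omit [X.Over (Spec (CommRingCat.of k))] in
theorem toOvl_injective [IsFinite f] (hdim : topologicalKrullDim X = 1) (j : Fin (1 + 1)) :
    Function.Injective (toOvl f j) := by
  haveI : Nonempty (ovl f) := ⟨⟨genericPoint X, map_generic_mem f hdim 0, map_generic_mem f hdim 1⟩⟩
  exact map_injective_of_isIntegral X (homOfLE (ovl_le f j))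

theorem exists_normalForm (hdim : topologicalKrullDim X = 1)
    (h0 : Module.finrank k (Coh.HH X (Coh.structureModule X) 0) = 1)
    (hf : f ≫ CohB1.ProjSpace.toSpec 1 k = X ↘ Spec (CommRingCat.of k))
    [IsFinite f] [Flat f] (hn : ∀ y, Scheme.Hom.finrank f y = 2) :
    Nonempty (NormalForm f (Curv2.genus k X)) := by
  haveI : Coh.IsQCoh (Coh.structureModule X) := isQCoh_structureModule (X := X)
  have hbasis : ∀ j, ∃ y, Indep2 (pullChart f j) y ∧ ∀ w, InSpan2 (pullChart f j) y w := fun j => by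
    let _ : Algebra k[X] Γ(X, f ⁻¹ᵁ EmbLib24.chart 1 k j) := (pullChart f j).toAlgebra
    obtain ⟨h2, h3, h4⟩ := finrank_pullChart hn (r := f) j
    haveI := h3; haveI := h4
    exact exists_basis_one h2
  obtain ⟨y, hy, hsy⟩ := hbasis 0
  obtain ⟨z, hz, hsz⟩ := hbasis 1
  have hi := toOvl_injective f hdim
  have ind : ∀ j (v : Γ(X, f ⁻¹ᵁ EmbLib24.chart 1 k j)), Indep2 (pullChart f j) v →
      Indep2 (ovlHom f j) (toOvl f j v) := fun j v hv a b h => hv a b (hi j (by
    rw [map_add, map_mul, map_zero]; exact h))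
  have sp : ∀ j (v : Γ(X, f ⁻¹ᵁ EmbLib24.chart 1 k j)), (∀ w, InSpan2 (pullChart f j) v w) →
      ∀ w, InSpan2 (ovlHom f j) (toOvl f j v) (toOvl f j w) := fun j v hv w => by
    obtain ⟨a, b, rfl⟩ := hv w
    exact ⟨a, b, by rw [map_add, map_mul]; rfl⟩
  have loc : ∀ j v, (∀ w, InSpan2 (pullChart f j) v w) → ∀ w,
      ∃ n, InSpan2 (ovlHom f j) (toOvl f j v) (ovlHom f j Polynomial.X ^ n * w) := fun j v hv w => by
    obtain ⟨n, b, hb⟩ := exists_pow_mul f j w
    exact ⟨n, hb ▸ sp j v hv b⟩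
  have hcov : f ⁻¹ᵁ EmbLib24.chart 1 k 0 ⊔ f ⁻¹ᵁ EmbLib24.chart 1 k 1 = ⊤ := by
    rw [← Scheme.Hom.preimage_sup, P1SC24.chart_cover, Scheme.Hom.preimage_top]
  have hX := ovlHom_X f
  have hC : ∀ c, ovlHom f 0 (Polynomial.C c) = ovlHom f 1 (Polynomial.C c) := fun c =>
    (ovlHom_C f hf 0 c).trans (ovlHom_C f hf 1 c).symm
  have hglob : ∀ w, InSpan2 (ovlHom f 0) (toOvl f 0 y) w → InSpan2 (ovlHom f 1) (toOvl f 1 z) w →
      ∃ e, w = ovlHom f 0 (Polynomial.C e) := by
    rintro w ⟨a, b, ha⟩ ⟨a', b', hb⟩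
    obtain ⟨e, he⟩ := exists_const_of_agree h0 hcov (pullChart f 0 a + pullChart f 0 b * y)
      (pullChart f 1 a' + pullChart f 1 b' * z) (by
        show toOvl f 0 _ = toOvl f 1 _
        rw [map_add, map_mul, map_add, map_mul]
        exact ha.symm.trans hb)
    refine ⟨e, ?_⟩
    rw [ovlHom_C f hf, ha, ← EmbLib24.res_gl (X ↘ Spec (CommRingCat.of k)) (ovl_le f 0) e, ← he]
    show _ = toOvl f 0 _
    rw [map_add, map_mul]
    rfl
  obtain ⟨M, h, c, l, hc, hrel⟩ := exists_normal_generators hX hC (ind 0 y hy) (loc 0 y hsy _) (loc 1 z hsz _) hglob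
  let y' := y + pullChart f 0 h
  let z' := pullChart f 1 (Polynomial.C c) * z + pullChart f 1 l
  have hy' : toOvl f 0 y' = toOvl f 0 y + ovlHom f 0 h := map_add _ _ _
  have hz' : toOvl f 1 z' = ovlHom f 1 Polynomial.X ^ (M + 1) * toOvl f 0 y' := by
    rw [hy', map_add, map_mul]; exact hrel.symm
  have hsy' : ∀ w, InSpan2 (pullChart f 0) y' w := fun w => (hsy w).translate h
  have hcC : Polynomial.C c⁻¹ * Polynomial.C c = 1 := by
    rw [← Polynomial.C_mul, inv_mul_cancel₀ hc, Polynomial.C_1]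
  have hsz' : ∀ w, InSpan2 (pullChart f 1) z' w := fun w => by
    obtain ⟨a, b, rfl⟩ := hsz w
    refine ⟨a - b * Polynomial.C c⁻¹ * l, b * Polynomial.C c⁻¹, ?_⟩
    have := congrArg (pullChart f 1) hcC
    rw [map_mul, map_one] at this
    simp only [z', map_sub, map_mul]
    linear_combination -(pullChart f 1 b * z) * this
  have hiy : Indep2 (pullChart f 0) y' := hy.translate h
  have hiz : Indep2 (pullChart f 1) z' := fun a b hab => by
    obtain ⟨h1, h2⟩ := hz (a + b * l) (b * Polynomial.C c) (by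
      simp only [map_add, map_mul]
      simp only [z'] at hab
      linear_combination hab)
    have hb : b = 0 := (mul_eq_zero.1 h2).resolve_right (by simpa using hc)
    subst hb
    exact ⟨by simpa using h1, rfl⟩
  obtain ⟨δ, hδs, hδc, hδk⟩ := exists_cocycle_map (k := k) ((EmbLib24.isAffineOpen_chart 1 k 0).preimage f)
    ((EmbLib24.isAffineOpen_chart 1 k 1).preimage f) hcov
  have hg : Curv2.genus k X = M := by
    refine finrank_cocycles hX hC M (ind 0 y' hiy) (loc 0 y' hsy') δ hδs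
      (fun a w => by rw [ovlHom_C f hf]; exact hδc a w) fun w => ?_
    rw [hδk]
    constructor
    · rintro ⟨a, b, hw⟩
      exact ⟨toOvl f 0 a, toOvl f 1 b, sp 0 y' hsy' a, hz' ▸ sp 1 z' hsz' b, hw⟩
    · rintro ⟨-, -, ⟨a, b, rfl⟩, ⟨a', b', rfl⟩, hw⟩
      refine ⟨pullChart f 0 a + pullChart f 0 b * y', pullChart f 1 a' + pullChart f 1 b' * z', ?_⟩
      show w = toOvl f 0 _ - toOvl f 1 _
      rw [map_add (toOvl f 0) (pullChart f 0 a) (pullChart f 0 b * y'), map_mul (toOvl f 0),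
        map_add (toOvl f 1) (pullChart f 1 a') (pullChart f 1 b' * z'), map_mul (toOvl f 1), hz']
      exact hw
  rw [hg]
  exact ⟨⟨y', z', hiy, hiz, hsy', hsz', hz', ind 0 y' hiy⟩⟩

/-- The quadratic equation of a normal form. -/
theorem NormalForm.equation {g : ℕ} (D : NormalForm f g) (hdim : topologicalKrullDim X = 1)
    (hN : Pi1.IsNormalScheme X)
    (hf : f ≫ CohB1.ProjSpace.toSpec 1 k = X ↘ Spec (CommRingCat.of k)) [IsFinite f] :
    ∃ p q, D.y ^ 2 + pullChart f 0 q * D.y = pullChart f 0 p ∧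
      q.natDegree ≤ g + 1 ∧ p.natDegree ≤ 2 * g + 2 ∧ 2 * g + 1 ≤ max p.natDegree (2 * q.natDegree) := by
  obtain ⟨a, b, hab⟩ := D.span_y (D.y ^ 2)
  have heq : D.y ^ 2 + pullChart f 0 (-b) * D.y = pullChart f 0 a := by rw [map_neg]; linear_combination hab
  refine ⟨a, -b, heq, ?_⟩
  have hC : ∀ c, ovlHom f 0 (Polynomial.C c) = ovlHom f 1 (Polynomial.C c) := fun c =>
    (ovlHom_C f hf 0 c).trans (ovlHom_C f hf 1 c).symm
  have hC' := congrArg (toOvl f 0) heq
  rw [map_add, map_mul, map_pow] at hC'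
  refine degree_bounds (ovlHom_X f) hC g D.indep hC' ?_ fun w c d hw => ?_
  · obtain ⟨c, d, hcd⟩ := D.span_z (D.z ^ 2)
    refine ⟨c, d, ?_⟩
    rw [← D.rel, ← map_pow, hcd, map_add, map_mul]
    rfl
  · have hV : IsAffineOpen (f ⁻¹ᵁ EmbLib24.chart 1 k 1) := (EmbLib24.isAffineOpen_chart 1 k 1).preimage f
    haveI : Nonempty (f ⁻¹ᵁ EmbLib24.chart 1 k 1) := ⟨⟨_, map_generic_mem f hdim 1⟩⟩
    haveI : Nonempty (ovl f) := ⟨⟨genericPoint X, map_generic_mem f hdim 0, map_generic_mem f hdim 1⟩⟩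
    haveI := NormalExtLib.isIntegrallyClosed_sections hN _ hV
    haveI := functionField_isFractionRing_of_isAffineOpen X _ hV
    let γ := X.germToFunctionField (ovl f)
    have hγ : ∀ e, γ (toOvl f 1 e) = algebraMap Γ(X, f ⁻¹ᵁ EmbLib24.chart 1 k 1) X.functionField e := fun e =>
      TopCat.Presheaf.germ_res_apply X.presheaf _ _ _ e
    have hint : IsIntegral Γ(X, f ⁻¹ᵁ EmbLib24.chart 1 k 1) (γ w) := by
      refine ⟨Polynomial.X ^ 2 + (Polynomial.C (pullChart f 1 c) * Polynomial.X - Polynomial.C (pullChart f 1 d)),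
        monic_X_pow_add ((degree_sub_le _ _).trans_lt (max_lt
          ((degree_C_mul_X_le _).trans_lt (by exact_mod_cast one_lt_two))
          (degree_C_le.trans_lt (by exact_mod_cast two_pos)))), ?_⟩
      simp only [eval₂_add, eval₂_sub, eval₂_mul, eval₂_pow, eval₂_X, eval₂_C, ← hγ]
      show γ w ^ 2 + (γ (ovlHom f 1 c) * γ w - γ (ovlHom f 1 d)) = 0
      rw [← map_pow, ← map_mul, ← map_sub, ← map_add, show w ^ 2 + (ovlHom f 1 c * w - ovlHom f 1 d) = 0 by
        linear_combination hw, map_zero]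
    obtain ⟨e, he⟩ := IsIntegrallyClosed.isIntegral_iff.1 hint
    rw [← hγ] at he
    obtain ⟨a', b', rfl⟩ := D.span_z e
    refine ⟨a', b', ?_⟩
    rw [← Scheme.germToFunctionField_injective X (ovl f) he, map_add, map_mul, D.rel]
    rfl

end Groth.Agent.CurveRR24
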