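import Groth.Agent.CurveRR24.DoubleCover.Equation
import Groth.Prelude.Def_LefPen

/-! # The affine plane curve of a quadratic equation -/

set_option autoImplicit false
set_option backward.isDefEq.respectTransparency.types false
set_option maxHeartbeats 1000000

universe u v

open CategoryTheory AlgebraicGeometry Polynomial Curves

namespace Groth.Agent.CurveRR24

/-- `k[x, y] / (y ^ 2 + q y - p)` is the ring `k[x] ⊕ k[x] y`. -/
theorem exists_quotient_equiv {k : Type u} [Field k] {B : Type v} [CommRing B] (π : k[X] →+* B) {y : B}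
    (hind : Indep2 π y) (hspan : ∀ w, InSpan2 π y w) {p q : k[X]} (heq : y ^ 2 + π q * y = π p) :
    ∃ e : (MvPolynomial (Fin 2) k ⧸ Ideal.span {MvPolynomial.X 1 ^ 2 + Polynomial.aeval (MvPolynomial.X 0) q * MvPolynomial.X 1 - Polynomial.aeval (MvPolynomial.X 0) p}) ≃+* B,
      ∀ c, e (Ideal.Quotient.mk _ (MvPolynomial.C c)) = π (Polynomial.C c) := by
  let R := MvPolynomial (Fin 2) k
  let r : R := MvPolynomial.X 1 ^ 2 + Polynomial.aeval (MvPolynomial.X 0) q * MvPolynomial.X 1 -
    Polynomial.aeval (MvPolynomial.X 0) p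
  let φ : R →+* B := MvPolynomial.eval₂Hom (π.comp Polynomial.C) ![π Polynomial.X, y]
  have h1 : φ (MvPolynomial.X 1) = y := MvPolynomial.eval₂Hom_X' _ _ _
  have ha : ∀ a : k[X], φ (Polynomial.aeval (MvPolynomial.X 0) a) = π a := fun a => by
    refine RingHom.congr_fun (show φ.comp (Polynomial.aeval (MvPolynomial.X 0 : R)).toRingHom = π from
      Polynomial.ringHom_ext (fun c => ?_) ?_) a
    · show φ (Polynomial.aeval _ (Polynomial.C c)) = _
      rw [Polynomial.aeval_C, MvPolynomial.algebraMap_eq, MvPolynomial.eval₂Hom_C]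
      rfl
    · show φ (Polynomial.aeval _ Polynomial.X) = _
      rw [Polynomial.aeval_X]
      exact MvPolynomial.eval₂Hom_X' _ _ _
  have hr : ∀ z ∈ Ideal.span ({r} : Set R), φ z = 0 := fun z hz => by
    obtain ⟨w, rfl⟩ := Ideal.mem_span_singleton'.1 hz
    rw [map_mul, show φ r = 0 by rw [map_sub, map_add, map_mul, map_pow, h1, ha, ha, heq, sub_self], mul_zero]
  let ψ := Ideal.Quotient.lift _ φ hr
  let m := Ideal.Quotient.mk (Ideal.span ({r} : Set R))
  have hrm : m (MvPolynomial.X 1) ^ 2 =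
      m (Polynomial.aeval (MvPolynomial.X 0) p) - m (Polynomial.aeval (MvPolynomial.X 0) q) * m (MvPolynomial.X 1) := by
    have : m r = 0 := Ideal.Quotient.eq_zero_iff_mem.2 (Ideal.mem_span_singleton_self r)
    rw [map_sub, map_add, map_mul, map_pow] at this
    linear_combination this
  have hnorm : ∀ z : R, ∃ a b : k[X], m z = m (Polynomial.aeval (MvPolynomial.X 0) a) +
      m (Polynomial.aeval (MvPolynomial.X 0) b) * m (MvPolynomial.X 1) := fun z => by
    induction z using MvPolynomial.induction_on with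
    | C c => exact ⟨Polynomial.C c, 0, by simp [MvPolynomial.algebraMap_eq]⟩
    | add z w hz hw =>
      obtain ⟨a, b, ha⟩ := hz
      obtain ⟨c, d, hc⟩ := hw
      exact ⟨a + c, b + d, by simp only [map_add, ha, hc]; ring⟩
    | mul_X z i hz =>
      obtain ⟨a, b, hab⟩ := hz
      fin_cases i
      · exact ⟨a * Polynomial.X, b * Polynomial.X, by
          simp only [map_mul, hab, Polynomial.aeval_X, Fin.zero_eta]; ring⟩
      · exact ⟨b * p, a - b * q, by
          simp only [map_mul, map_sub, hab, Fin.mk_one]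
          linear_combination m (Polynomial.aeval (MvPolynomial.X 0) b) * hrm⟩
  have hb : Function.Bijective ψ := by
    refine ⟨(injective_iff_map_eq_zero ψ).2 fun z hz => ?_, fun w => ?_⟩
    · obtain ⟨z, rfl⟩ := Ideal.Quotient.mk_surjective z
      obtain ⟨a, b, hab⟩ := hnorm z
      change ψ (m z) = 0 at hz
      rw [hab, map_add, map_mul] at hz
      obtain ⟨rfl, rfl⟩ := hind a b (by rw [← ha a, ← ha b, ← h1]; exact hz)
      exact hab.trans (by simp)
    · obtain ⟨a, b, rfl⟩ := hspan w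
      exact ⟨m (Polynomial.aeval (MvPolynomial.X 0) a + Polynomial.aeval (MvPolynomial.X 0) b * MvPolynomial.X 1), by
        show φ _ = _
        rw [map_add, map_mul, ha, ha, h1]⟩
  exact ⟨RingEquiv.ofBijective ψ hb, fun c => MvPolynomial.eval₂Hom_C _ _ c⟩

/-- The first chart of a double cover as a plane curve. -/
theorem exists_chart_iso {k : Type u} [Field k] {C : Scheme.{u}} (sC : C ⟶ Spec (CommRingCat.of k))
    (f : C ⟶ CohB1.ProjSpace 1 k) [IsAffineHom f] (hf : f ≫ CohB1.ProjSpace.toSpec 1 k = sC)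
    {y : Γ(C, f ⁻¹ᵁ EmbLib24.chart 1 k 0)} (hind : Indep2 (pullChart f 0) y)
    (hspan : ∀ w, InSpan2 (pullChart f 0) y w) {p q : k[X]}
    (heq : y ^ 2 + pullChart f 0 q * y = pullChart f 0 p) :
    ∃ e : (↑(f ⁻¹ᵁ (LefPen.chart 1 k 0)) : Scheme.{u}) ≅
          Spec (CommRingCat.of (MvPolynomial (Fin 2) k ⧸ Ideal.span {MvPolynomial.X 1 ^ 2 + Polynomial.aeval (MvPolynomial.X 0) q * MvPolynomial.X 1 - Polynomial.aeval (MvPolynomial.X 0) p})),
      e.hom ≫ Spec.map (CommRingCat.ofHom ((Ideal.Quotient.mk (Ideal.span {MvPolynomial.X 1 ^ 2 + Polynomial.aeval (MvPolynomial.X 0) q * MvPolynomial.X 1 - Polynomial.aeval (MvPolynomial.X 0) p})).comp (MvPolynomial.C : k →+* MvPolynomial (Fin 2) k))) = (f ⁻¹ᵁ (LefPen.chart 1 k 0)).ι ≫ sC := by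
  obtain ⟨e, he⟩ := exists_quotient_equiv _ hind hspan heq
  have hU : IsAffineOpen (f ⁻¹ᵁ EmbLib24.chart 1 k 0) := (EmbLib24.isAffineOpen_chart 1 k 0).preimage f
  refine ⟨hU.isoSpec ≪≫ Scheme.Spec.mapIso e.toCommRingCatIso.op, ?_⟩
  rw [Iso.trans_hom, Category.assoc, IsAffineOpen.isoSpec_hom]
  show Scheme.Opens.toSpecΓ _ ≫ Spec.map e.toCommRingCatIso.hom ≫ Spec.map _ = _
  rw [← Spec.map_comp]
  refine Eq.trans ?_ (EmbLib24.toSpecΓ_gl sC (f ⁻¹ᵁ EmbLib24.chart 1 k 0)).symm
  congr 2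
  refine CommRingCat.hom_ext (RingHom.ext fun c => ?_)
  exact (he c).trans (pullChart_C hf 0 c)

end Groth.Agent.CurveRR24
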