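import Mathlib.Algebra.Polynomial.Reverse
import Mathlib.Algebra.Polynomial.Div
import Mathlib.Algebra.Polynomial.RingDivision
import Mathlib.LinearAlgebra.Dimension.Constructions
import Mathlib.RingTheory.Norm.Basic
import Mathlib.RingTheory.PrincipalIdealDomain
import Mathlib.FieldTheory.IntermediateField.Adjoin.Basic
import Mathlib.FieldTheory.SeparableDegree

/-!
# The algebra of quadratic covers of the projective line

A ring `C` (the overlap) receives `k[x]` by `π₀` and `k[1/x]` by `π₁`.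
-/

set_option autoImplicit false

universe u v

open Polynomial

namespace Groth.Agent.CurveRR24

/-- `1, y` are independent over `k[x]`. -/
def Indep2 {R C : Type*} [CommRing R] [CommRing C] (π : R →+* C) (y : C) : Prop :=
  ∀ a b, π a + π b * y = 0 → a = 0 ∧ b = 0

/-- `w ∈ R ⊕ R y`. -/
def InSpan2 {R C : Type*} [CommRing R] [CommRing C] (π : R →+* C) (y w : C) : Prop :=
  ∃ a b, w = π a + π b * y

variable {R C : Type*} [CommRing R] [CommRing C] {π : R →+* C} {y : C}

theorem Indep2.cancel (h : Indep2 π y) {a b a' b' : R} (e : π a + π b * y = π a' + π b' * y) :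
    a = a' ∧ b = b' := by
  have := h (a - a') (b - b') (by rw [map_sub, map_sub]; linear_combination e)
  exact ⟨sub_eq_zero.1 this.1, sub_eq_zero.1 this.2⟩

theorem Indep2.translate (h : Indep2 π y) (e : R) : Indep2 π (y + π e) := fun a b he => by
  obtain ⟨h1, h2⟩ := h (a + b * e) b (by rw [map_add, map_mul]; linear_combination he)
  subst h2
  simpa using h1

theorem InSpan2.translate {w : C} (h : InSpan2 π y w) (e : R) : InSpan2 π (y + π e) w := by
  obtain ⟨a, b, rfl⟩ := h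
  exact ⟨a - b * e, b, by rw [map_sub, map_mul]; ring⟩

theorem InSpan2.of_translate {w : C} {e : R} (h : InSpan2 π (y + π e) w) : InSpan2 π y w := by
  simpa using h.translate (-e)

/-- A free rank two algebra over a Bézout domain has a basis `1, y`. -/
theorem exists_basis_one {R B : Type*} [CommRing R] [IsDomain R] [IsPrincipalIdealRing R] [CommRing B]
    [Algebra R B] [Module.Free R B] [Module.Finite R B] (h : Module.finrank R B = 2) :
    ∃ y : B, Indep2 (algebraMap R B) y ∧ ∀ w, InSpan2 (algebraMap R B) y w := by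
  have e := Module.finBasisOfFinrankEq R B h
  let a := e.repr 1 0
  let b := e.repr 1 1
  have h1 : a • e 0 + b • e 1 = 1 := by
    have := e.sum_repr (1 : B)
    rwa [Fin.sum_univ_two] at this
  have hd : Ideal.span ({a, b} : Set R) = ⊤ := by
    obtain ⟨d, hd⟩ := IsPrincipalIdealRing.principal (Ideal.span ({a, b} : Set R))
    obtain ⟨a', ha⟩ : d ∣ a := Ideal.mem_span_singleton.1 (by rw [← Ideal.submodule_span_eq, ← hd]; exact Ideal.subset_span (by simp))
    obtain ⟨b', hb⟩ : d ∣ b := Ideal.mem_span_singleton.1 (by rw [← Ideal.submodule_span_eq, ← hd]; exact Ideal.subset_span (by simp))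
    have hu : IsUnit (algebraMap R B d) := by
      refine IsUnit.of_mul_eq_one (a' • e 0 + b' • e 1) ?_
      rw [mul_add, ← Algebra.smul_def, ← Algebra.smul_def, smul_smul, smul_smul, ← ha, ← hb, h1]
    have h2 := hu.map (Algebra.norm R)
    rw [Algebra.norm_algebraMap, h] at h2
    rw [hd]
    exact Ideal.span_singleton_eq_top.2 ((isUnit_pow_iff two_ne_zero).1 h2)
  obtain ⟨u, v, huv⟩ := Ideal.mem_span_pair.1 (hd.symm ▸ Submodule.mem_top : (1 : R) ∈ Ideal.span ({a, b} : Set R))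
  have he0 : e 0 = algebraMap R B u + algebraMap R B (-b) * (-v • e 0 + u • e 1) := by
    rw [Algebra.algebraMap_eq_smul_one, ← h1, ← Algebra.smul_def]
    conv_lhs => rw [← one_smul R (e 0), ← huv]
    module
  have he1 : e 1 = algebraMap R B v + algebraMap R B a * (-v • e 0 + u • e 1) := by
    rw [Algebra.algebraMap_eq_smul_one, ← h1, ← Algebra.smul_def]
    conv_lhs => rw [← one_smul R (e 1), ← huv]
    module
  refine ⟨-v • e 0 + u • e 1, fun c d hcd => ?_, fun w => ?_⟩
  · rw [Algebra.algebraMap_eq_smul_one, ← h1, ← Algebra.smul_def] at hcd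
    have hc : (c * a - d * v) • e 0 + (c * b + d * u) • e 1 = 0 := by rw [← hcd]; module
    obtain ⟨e0, e1⟩ := Fin.forall_fin_two.1 (Fintype.linearIndependent_iff.1 e.linearIndependent
      ![c * a - d * v, c * b + d * u] (by simpa [Fin.sum_univ_two] using hc))
    simp only [Matrix.cons_val_zero, Matrix.cons_val_one] at e0 e1
    exact ⟨by linear_combination u * e0 + v * e1 - c * huv, by linear_combination a * e1 - b * e0 - d * huv⟩
  · have hw : algebraMap R B (e.repr w 0) * e 0 + algebraMap R B (e.repr w 1) * e 1 = w := by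
      simpa [Fin.sum_univ_two, Algebra.smul_def] using e.sum_repr w
    refine ⟨e.repr w 0 * u + e.repr w 1 * v, -e.repr w 0 * b + e.repr w 1 * a, ?_⟩
    simp only [Algebra.smul_def, map_add, map_mul, map_neg] at he0 he1 ⊢
    linear_combination -hw + algebraMap R B (e.repr w 0) * he0 + algebraMap R B (e.repr w 1) * he1

section Charts

variable {k : Type u} [Field k] {C : Type v} [CommRing C] {π₀ π₁ : k[X] →+* C}

/-- Change of chart. -/
theorem chart_flip (hX : π₀ X * π₁ X = 1) (hC : ∀ c, π₀ (Polynomial.C c) = π₁ (Polynomial.C c))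
    {p : k[X]} {d : ℕ} (hp : p.natDegree ≤ d) : π₁ p * π₀ X ^ d = π₀ (reflect d p) := by
  have hr : reflect d p = ∑ i ∈ Finset.range (d + 1), Polynomial.C (p.coeff i) * X ^ (d - i) := by
    conv_lhs => rw [p.as_sum_range_C_mul_X_pow' (Nat.lt_succ_of_le hp)]
    rw [← AddMonoidHom.mk'_apply (reflect d) fun f g => reflect_add f g d, map_sum]
    refine Finset.sum_congr rfl fun i hi => ?_
    rw [AddMonoidHom.mk'_apply, reflect_C_mul_X_pow, revAt_le (Finset.mem_range_succ_iff.1 hi)]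
  rw [hr]
  conv_lhs => rw [p.as_sum_range_C_mul_X_pow' (Nat.lt_succ_of_le hp)]
  rw [map_sum, map_sum, Finset.sum_mul]
  refine Finset.sum_congr rfl fun i hi => ?_
  obtain ⟨j, rfl⟩ := le_iff_exists_add.1 (Finset.mem_range_succ_iff.1 hi)
  rw [map_mul, map_mul, map_pow, map_pow, hC, Nat.add_sub_cancel_left]
  calc π₁ (Polynomial.C (p.coeff i)) * π₁ X ^ i * π₀ X ^ (i + j)
      = π₁ (Polynomial.C (p.coeff i)) * π₀ X ^ j * (π₀ X * π₁ X) ^ i := by rw [mul_pow, pow_add]; ring
    _ = _ := by rw [hX, one_pow, mul_one]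

theorem chart_mul (hX : π₀ X * π₁ X = 1) (n : ℕ) : π₀ X ^ n * π₁ X ^ n = 1 := by
  rw [← mul_pow, hX, one_pow]

theorem pow_split (hX : π₀ X * π₁ X = 1) {i n : ℕ} (h : i ≤ n) :
    π₁ X ^ n * π₀ X ^ i = π₁ X ^ (n - i) ∧ π₀ X ^ n * π₁ X ^ i = π₀ X ^ (n - i) := by
  obtain ⟨j, rfl⟩ := le_iff_exists_add.1 h
  rw [Nat.add_sub_cancel_left]
  constructor
  · calc π₁ X ^ (i + j) * π₀ X ^ i = π₁ X ^ j * (π₀ X ^ i * π₁ X ^ i) := by rw [pow_add]; ring
      _ = _ := by rw [chart_mul hX, mul_one]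
  · calc π₀ X ^ (i + j) * π₁ X ^ i = π₀ X ^ j * (π₀ X ^ i * π₁ X ^ i) := by rw [pow_add]; ring
      _ = _ := by rw [chart_mul hX, mul_one]

/-- A Laurent polynomial is a polynomial in `1/x` plus one in `x`. -/
theorem laurent_split (hX : π₀ X * π₁ X = 1) (hC : ∀ c, π₀ (Polynomial.C c) = π₁ (Polynomial.C c))
    (n : ℕ) (a : k[X]) : π₁ X ^ n * π₀ a = π₁ (reflect n (a %ₘ X ^ n)) + π₀ (a /ₘ X ^ n) := by
  have hd : (a %ₘ X ^ n).natDegree ≤ n :=
    (natDegree_modByMonic_le _ (monic_X_pow n)).trans (by rw [natDegree_X_pow])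
  rw [← chart_flip (π₀ := π₁) (π₁ := π₀) (by rwa [mul_comm]) (fun c => (hC c).symm) hd]
  conv_lhs => rw [← modByMonic_add_div a (X ^ n)]
  rw [map_add, map_mul, map_pow]
  linear_combination π₀ (a /ₘ X ^ n) * chart_mul hX n

variable {y z : C}

/-- Two chart generators can be normalized so that `z = y / x ^ (M + 1)`. -/
theorem exists_normal_generators (hX : π₀ X * π₁ X = 1)
    (hC : ∀ c, π₀ (Polynomial.C c) = π₁ (Polynomial.C c)) (hy : Indep2 π₀ y)
    (hz' : ∃ n, InSpan2 π₀ y (π₀ X ^ n * z)) (hy' : ∃ n, InSpan2 π₁ z (π₁ X ^ n * y))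
    (hglob : ∀ w, InSpan2 π₀ y w → InSpan2 π₁ z w → ∃ e, w = π₀ (Polynomial.C e)) :
    ∃ (M : ℕ) (h : k[X]) (c : k) (l : k[X]), c ≠ 0 ∧
      π₁ X ^ (M + 1) * (y + π₀ h) = π₁ (Polynomial.C c) * z + π₁ l := by
  obtain ⟨n, α, β, hz⟩ := hz'
  obtain ⟨n', α', β', hy₁⟩ := hy'
  let d := max α'.natDegree β'.natDegree
  have e1 := chart_flip hX hC (le_max_left α'.natDegree β'.natDegree)
  have e2 := chart_flip hX hC (le_max_right α'.natDegree β'.natDegree)
  have key : reflect d β' * β * X ^ n' = X ^ (d + n) := by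
    have := hy.cancel (a := (reflect d α' * X ^ n + reflect d β' * α) * X ^ n') (b := reflect d β' * β * X ^ n')
      (a' := 0) (b' := X ^ (d + n)) ?_
    · exact this.2
    simp only [map_add, map_mul, map_pow, map_zero]
    have hzero := chart_mul hX n'
    linear_combination (π₀ X ^ d * π₀ X ^ n' * π₀ X ^ n) * (-hy₁) - (π₁ β' * π₀ X ^ d * π₀ X ^ n') * hz +
      (π₀ X ^ d * π₀ X ^ n * y) * hzero - π₀ X ^ n * π₀ X ^ n' * e1 -
      π₀ X ^ n' * (π₀ α + π₀ β * y) * e2
  obtain ⟨i, -, hi⟩ := (dvd_prime_pow prime_X (d + n)).1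
    (key ▸ (dvd_mul_left β (reflect d β')).trans (dvd_mul_right _ _))
  obtain ⟨u, hu⟩ := hi.symm
  obtain ⟨c, hc, hcu⟩ := Polynomial.isUnit_iff.1 u.isUnit
  have hc0 : c ≠ 0 := hc.ne_zero
  have hz2 : z = π₁ (reflect n (α %ₘ X ^ n)) + π₀ (α /ₘ X ^ n) +
      π₁ X ^ n * π₀ X ^ i * π₁ (Polynomial.C c) * y := by
    rw [← laurent_split hX hC, ← hC, ← map_pow π₀ X i, mul_assoc (π₁ X ^ n), ← map_mul, hcu, hu]
    linear_combination π₁ X ^ n * hz - z * chart_mul hX n
  have hin : i < n := by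
    by_contra hni
    rw [mul_comm (π₁ X ^ n), (pow_split hX (not_lt.1 hni)).2, ← hC, ← map_pow, ← map_mul] at hz2
    obtain ⟨e, he⟩ := hglob (π₀ (α /ₘ X ^ n) + π₀ (X ^ (i - n) * Polynomial.C c) * y) ⟨_, _, rfl⟩
      ⟨-reflect n (α %ₘ X ^ n), 1, by rw [map_neg, map_one]; linear_combination -hz2⟩
    have := (hy.cancel (a := α /ₘ X ^ n) (b := X ^ (i - n) * Polynomial.C c) (a' := Polynomial.C e) (b' := 0)
      (by rw [map_zero π₀, zero_mul, add_zero]; exact he)).2
    simp [hc0] at this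
  rw [(pow_split hX hin.le).1] at hz2
  obtain ⟨M, hM⟩ : ∃ M, n - i = M + 1 := ⟨n - i - 1, by omega⟩
  rw [hM] at hz2
  have hinv : π₁ (Polynomial.C c⁻¹) * π₁ (Polynomial.C c) = 1 := by
    rw [← map_mul, ← Polynomial.C_mul, inv_mul_cancel₀ hc0, Polynomial.C_1, map_one]
  refine ⟨M, Polynomial.C c⁻¹ * X ^ (M + 1) * (α /ₘ X ^ n), c⁻¹,
    -(Polynomial.C c⁻¹ * reflect n (α %ₘ X ^ n)), inv_ne_zero hc0, ?_⟩
  simp only [map_mul, map_neg, map_pow, hC]
  linear_combination π₁ (Polynomial.C c⁻¹) * π₀ (α /ₘ X ^ n) * chart_mul hX (M + 1) -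
    π₁ (Polynomial.C c⁻¹) * hz2 - π₁ X ^ (M + 1) * y * hinv

/-- The cokernel of `k[x]⟨1, y⟩ × k[1/x]⟨1, y / x ^ (M + 1)⟩ → C` has dimension `M`. -/
theorem finrank_cocycles (hX : π₀ X * π₁ X = 1) (hC : ∀ c, π₀ (Polynomial.C c) = π₁ (Polynomial.C c))
    (M : ℕ) (hy : Indep2 π₀ y) (hloc : ∀ w, ∃ n, InSpan2 π₀ y (π₀ X ^ n * w))
    {H : Type*} [AddCommGroup H] [Module k H] (δ : C →+ H) (hsurj : Function.Surjective δ)
    (hsmul : ∀ (c : k) w, δ (π₀ (Polynomial.C c) * w) = c • δ w)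
    (hker : ∀ w, δ w = 0 ↔ ∃ a b, InSpan2 π₀ y a ∧ InSpan2 π₁ (π₁ X ^ (M + 1) * y) b ∧ w = a - b) :
    Module.finrank k H = M := by
  let P : (Fin M → k) → k[X] := fun c => ∑ i : Fin M, Polynomial.C (c i) * X ^ (i.val + 1)
  have hPadd : ∀ c c', P (c + c') = P c + P c' := fun c c' => by
    simp [P, add_mul, Finset.sum_add_distrib]
  have hPsmul : ∀ (a : k) c, P (a • c) = Polynomial.C a * P c := fun a c => by
    simp [P, Finset.mul_sum, mul_assoc]
  let ψ : (Fin M → k) →ₗ[k] H :=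
    { toFun := fun c => δ (π₁ (P c) * y)
      map_add' := fun c c' => by rw [hPadd, map_add, add_mul, map_add]
      map_smul' := fun a c => by
        rw [hPsmul, map_mul π₁, mul_assoc, ← hC, hsmul, RingHom.id_apply] }
  have h₀ : ∀ a, InSpan2 π₀ y a → δ a = 0 := fun a ha =>
    (hker a).2 ⟨a, 0, ha, ⟨0, 0, by simp⟩, (sub_zero a).symm⟩
  have h₁ : ∀ b, InSpan2 π₁ (π₁ X ^ (M + 1) * y) b → δ b = 0 := fun b hb => by
    refine neg_eq_zero.1 ((map_neg δ b).symm.trans ?_)
    exact (hker (-b)).2 ⟨0, b, ⟨0, 0, by simp⟩, hb, (zero_sub b).symm⟩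
  have hsur : Function.Surjective ψ := fun h => by
    obtain ⟨w, rfl⟩ := hsurj h
    obtain ⟨n, a, b, hw⟩ := hloc w
    let e := reflect n (b %ₘ X ^ n)
    refine ⟨fun i => e.coeff (i.val + 1), ?_⟩
    have he : (e %ₘ X ^ (M + 1)) = Polynomial.C (e.coeff 0) + P fun i => e.coeff (i.val + 1) := by
      have hd : (e %ₘ X ^ (M + 1)).natDegree < M + 1 := by
        have := natDegree_modByMonic_lt e (monic_X_pow (M + 1)) (fun h => by
          simpa using congrArg natDegree h)
        rwa [natDegree_X_pow] at this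
      have hc : ∀ i, i < M + 1 → (e %ₘ X ^ (M + 1)).coeff i = e.coeff i := fun i hi => by
        conv_rhs => rw [← modByMonic_add_div e (X ^ (M + 1))]
        rw [coeff_add, coeff_X_pow_mul', if_neg (not_le.2 hi), add_zero]
      conv_lhs => rw [(e %ₘ X ^ (M + 1)).as_sum_range_C_mul_X_pow' hd]
      rw [← Fin.sum_univ_eq_sum_range (fun i => Polynomial.C ((e %ₘ X ^ (M + 1)).coeff i) * X ^ i),
        Fin.sum_univ_succ]
      simp only [Fin.val_zero, pow_zero, mul_one, Fin.val_succ]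
      exact congrArg₂ (· + ·) (congrArg _ (hc 0 (Nat.succ_pos M)))
        (Finset.sum_congr rfl fun i _ => by rw [hc _ (Nat.succ_lt_succ i.isLt)])
    have hw' : w = (π₀ (a /ₘ X ^ n) + π₀ (b /ₘ X ^ n + Polynomial.C (e.coeff 0)) * y) +
        (π₁ (reflect n (a %ₘ X ^ n)) + π₁ (e /ₘ X ^ (M + 1)) * (π₁ X ^ (M + 1) * y)) +
        π₁ (P fun i => e.coeff (i.val + 1)) * y := by
      have h3 : π₁ e = π₁ (Polynomial.C (e.coeff 0)) + π₁ (P fun i => e.coeff (i.val + 1)) +
          π₁ X ^ (M + 1) * π₁ (e /ₘ X ^ (M + 1)) := by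
        rw [← map_add, ← he, ← map_pow, ← map_mul, ← map_add, modByMonic_add_div]
      have h2 : π₁ X ^ n * π₀ b = π₁ e + π₀ (b /ₘ X ^ n) := laurent_split hX hC n b
      have h1 := laurent_split hX hC n a
      simp only [map_add, hC]
      linear_combination π₁ X ^ n * hw - w * chart_mul hX n + h1 + y * h2 + y * h3
    show δ (π₁ (P _) * y) = _
    conv_rhs => rw [hw', map_add, map_add, h₀ _ ⟨_, _, rfl⟩, h₁ _ ⟨_, _, rfl⟩, zero_add, zero_add]
  have hinj : Function.Injective ψ := by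
    refine (injective_iff_map_eq_zero ψ).2 fun c hc => ?_
    obtain ⟨-, -, ⟨a, b, rfl⟩, ⟨a', b', rfl⟩, hab⟩ := (hker _).1 hc
    funext i
    let d := a'.natDegree + b'.natDegree + M + 1
    have e1 := chart_flip hX hC (show a'.natDegree ≤ d by omega)
    have e2 := chart_flip hX hC (show (X ^ (M + 1) * b').natDegree ≤ d from
      natDegree_mul_le.trans (by rw [natDegree_X_pow]; omega))
    have e3 := chart_flip hX hC (show (P c).natDegree ≤ d from natDegree_sum_le_of_forall_le _ _ fun j _ =>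
      (natDegree_C_mul_X_pow_le _ _).trans (by have := j.isLt; omega))
    rw [map_mul, map_pow] at e2
    have h := (hy.cancel (a := reflect d a') (b := reflect d (P c) + reflect d (X ^ (M + 1) * b'))
      (a' := X ^ d * a) (b' := X ^ d * b) (by
        simp only [map_add, map_mul, map_pow, ← e1, ← e2, ← e3]
        linear_combination π₀ X ^ d * hab)).2
    have h' := congrArg (fun p => p.coeff (d - (i.val + 1))) h
    have hi : i.val + 1 ≤ d := by have := i.isLt; omega
    simp only [coeff_add, coeff_reflect, coeff_X_pow_mul'] at h'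
    rw [revAt_le (Nat.sub_le _ _), Nat.sub_sub_self hi, if_neg (by have := i.isLt; omega),
      if_neg (by omega)] at h'
    simpa [P, coeff_C_mul_X_pow, Fin.val_inj] using h'
  rw [← (LinearEquiv.ofBijective ψ ⟨hinj, hsur⟩).finrank_eq, Module.finrank_fin_fun]

/-- The degree bounds of the equation. -/
theorem degree_bounds (hX : π₀ X * π₁ X = 1) (hC : ∀ c, π₀ (Polynomial.C c) = π₁ (Polynomial.C c))
    (M : ℕ) (hy : Indep2 π₀ y) {p q : k[X]} (heq : y ^ 2 + π₀ q * y = π₀ p)
    (hsq : InSpan2 π₁ (π₁ X ^ (M + 1) * y) ((π₁ X ^ (M + 1) * y) ^ 2))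
    (hint : ∀ w a b, w ^ 2 + π₁ a * w = π₁ b → InSpan2 π₁ (π₁ X ^ (M + 1) * y) w) :
    q.natDegree ≤ M + 1 ∧ p.natDegree ≤ 2 * M + 2 ∧ 2 * M + 1 ≤ max p.natDegree (2 * q.natDegree) := by
  obtain ⟨p', q', h⟩ := hsq
  have hd : q.natDegree ≤ M + 1 ∧ p.natDegree ≤ 2 * M + 2 := by
    let e := p'.natDegree + q'.natDegree
    have ep := chart_flip hX hC (show p'.natDegree ≤ 2 * M + 2 + e by omega)
    have eq := chart_flip hX hC (show q'.natDegree ≤ M + 1 + e by omega)
    obtain ⟨h1, h2⟩ := hy.cancel (a := X ^ e * p) (b := -(X ^ e * q))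
      (a' := reflect (2 * M + 2 + e) p') (b' := reflect (M + 1 + e) q') (by
      simp only [map_mul, map_pow, map_neg, ← ep, ← eq]
      linear_combination π₀ X ^ (2 * M + 2 + e) * h - π₀ X ^ e * heq -
        π₀ X ^ e * y ^ 2 * chart_mul hX (2 * M + 2) +
        π₁ q' * y * π₀ X ^ (M + 1 + e) * chart_mul hX (M + 1))
    constructor
    · refine natDegree_le_iff_coeff_eq_zero.2 fun j hj => ?_
      have := congrArg (fun r => r.coeff (j + e)) h2
      simp only [coeff_neg, coeff_X_pow_mul, coeff_reflect] at this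
      rw [revAt_eq_self_of_lt (by omega), coeff_eq_zero_of_natDegree_lt (p := q') (by omega)] at this
      exact neg_eq_zero.1 this
    · refine natDegree_le_iff_coeff_eq_zero.2 fun j hj => ?_
      have := congrArg (fun r => r.coeff (j + e)) h1
      simp only [coeff_X_pow_mul, coeff_reflect] at this
      rwa [revAt_eq_self_of_lt (by omega), coeff_eq_zero_of_natDegree_lt (p := p') (by omega)] at this
  refine ⟨hd.1, hd.2, ?_⟩
  by_contra hlt
  rw [not_le, max_lt_iff] at hlt
  have hswap : π₁ X * π₀ X = 1 := by rwa [mul_comm]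
  have e1 := chart_flip hswap (fun c => (hC c).symm) (show q.natDegree ≤ M by omega)
  have e2 := chart_flip hswap (fun c => (hC c).symm) (show p.natDegree ≤ 2 * M by omega)
  obtain ⟨a, b, hab⟩ := hint (π₁ X ^ M * y) (reflect M q) (reflect (2 * M) p)
    (by rw [← e1, ← e2]; linear_combination π₁ X ^ (2 * M) * heq)
  let d := a.natDegree + b.natDegree + M + 1
  have ea := chart_flip hX hC (show a.natDegree ≤ d by omega)
  have eb := chart_flip hX hC (show (X ^ (M + 1) * b).natDegree ≤ d from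
    natDegree_mul_le.trans (by rw [natDegree_X_pow]; omega))
  rw [map_mul, map_pow] at eb
  have h' := (hy.cancel (a := 0) (b := X ^ (d - M)) (a' := reflect d a)
    (b' := reflect d (X ^ (M + 1) * b)) (by
      simp only [map_zero, map_pow, ← ea, ← eb]
      rw [← (pow_split hX (show M ≤ d by omega)).2]
      linear_combination π₀ X ^ d * hab)).2
  have := congrArg (fun r => r.coeff (d - M)) h'
  simp only [coeff_X_pow_self, coeff_reflect, coeff_X_pow_mul'] at this
  rw [revAt_le (Nat.sub_le _ _), Nat.sub_sub_self (show M ≤ d by omega), if_neg (by omega)] at this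
  exact one_ne_zero this

/-- Completing the square. -/
theorem complete_square (hX : π₀ X * π₁ X = 1) (hC : ∀ c, π₀ (Polynomial.C c) = π₁ (Polynomial.C c))
    (h2 : (2 : k) ≠ 0) (M : ℕ) {p q : k[X]} (heq : y ^ 2 + π₀ q * y = π₀ p) (hq : q.natDegree ≤ M + 1) :
    (y + π₀ (Polynomial.C 2⁻¹ * q)) ^ 2 = π₀ (p + (Polynomial.C 2⁻¹ * q) ^ 2) ∧
      π₁ X ^ (M + 1) * (y + π₀ (Polynomial.C 2⁻¹ * q)) =
        π₁ X ^ (M + 1) * y + π₁ (Polynomial.C 2⁻¹ * reflect (M + 1) q) := by
  have h : (2 : C) * π₀ (Polynomial.C 2⁻¹) = 1 := by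
    rw [← map_ofNat (π₀.comp Polynomial.C) 2, RingHom.comp_apply, ← map_mul, ← Polynomial.C_mul,
      mul_inv_cancel₀ h2, Polynomial.C_1, map_one]
  refine ⟨?_, ?_⟩
  · simp only [map_add, map_pow, map_mul]
    linear_combination heq + π₀ q * y * h
  · rw [map_mul, map_mul, ← chart_flip (show π₁ X * π₀ X = 1 by rwa [mul_comm]) (fun c => (hC c).symm) hq, hC]
    ring

end Charts

end Groth.Agent.CurveRR24
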