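import Groth.Agent.CurveRR24.DoubleCover.Equation
import Groth.Agent.CurveRR24.DoubleCover.Main
import Mathlib.FieldTheory.PurelyInseparable.PerfectClosure

/-! # The function field of a quadratic equation -/

set_option autoImplicit false
set_option linter.style.haveILetI false
set_option backward.isDefEq.respectTransparency.types false
set_option maxHeartbeats 1000000

universe u

open CategoryTheory CategoryTheory.Limits AlgebraicGeometry Opposite TopologicalSpace Polynomial
open scoped IntermediateField

namespace Groth.Agent.CurveRR24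

/-- A field of quotients of `k[t] ⊕ k[t] y` with `y ^ 2 + q y = p` is quadratic over `k(t)`. -/
theorem field_of_equation {k K : Type u} [Field k] [Field K] [Algebra k K] {t y : K} {p q : k[X]}
    (hind : Indep2 (aeval t : k[X] →ₐ[k] K).toRingHom y)
    (heq : y ^ 2 + aeval t q * y = aeval t p)
    (hgen : ∀ w : K, ∃ a b c d : k[X], w = (aeval t a + aeval t b * y) / (aeval t c + aeval t d * y)) :
    IntermediateField.adjoin k ({t, y} : Set K) = ⊤ ∧
      Module.finrank (IntermediateField.adjoin k ({t} : Set K)) K = 2 ∧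
      ((q ≠ 0 ∨ (2 : k) ≠ 0) → Algebra.IsSeparable (IntermediateField.adjoin k ({t} : Set K)) K) := by
  let F := IntermediateField.adjoin k ({t} : Set K)
  have hF : ∀ a : k[X], aeval t a ∈ F := fun a =>
    (IntermediateField.mem_adjoin_simple_iff k _).2 ⟨a, 1, by rw [map_one, div_one]⟩
  have htop : IntermediateField.adjoin k ({t, y} : Set K) = ⊤ := by
    refine eq_top_iff.2 fun w _ => ?_
    let E := IntermediateField.adjoin k ({t, y} : Set K)
    obtain ⟨a, b, c, d, rfl⟩ := hgen w
    have ht : F ≤ E := IntermediateField.adjoin.mono k _ _ (by simp)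
    have hy : y ∈ E := IntermediateField.subset_adjoin k _ (by simp)
    exact E.div_mem (E.add_mem (ht (hF a)) (E.mul_mem (ht (hF b)) hy))
      (E.add_mem (ht (hF c)) (E.mul_mem (ht (hF d)) hy))
  have hEtop : F⟮y⟯ = ⊤ := by
    refine eq_top_iff.2 fun w _ => ?_
    obtain ⟨a, b, c, d, rfl⟩ := hgen w
    have hFm : ∀ a : k[X], aeval t a ∈ F⟮y⟯ := fun a => F⟮y⟯.algebraMap_mem (⟨_, hF a⟩ : F)
    have hy : y ∈ F⟮y⟯ := IntermediateField.mem_adjoin_simple_self F y
    exact F⟮y⟯.div_mem (F⟮y⟯.add_mem (hFm a) (F⟮y⟯.mul_mem (hFm b) hy))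
      (F⟮y⟯.add_mem (hFm c) (F⟮y⟯.mul_mem (hFm d) hy))
  let cq : F := ⟨_, hF q⟩
  let cp : F := ⟨_, hF p⟩
  let P : F[X] := Polynomial.X ^ 2 + (Polynomial.C cq * Polynomial.X - Polynomial.C cp)
  have hdeg : (Polynomial.C cq * Polynomial.X - Polynomial.C cp).degree < ((2 : ℕ) : WithBot ℕ) :=
    (degree_sub_le _ _).trans_lt (max_lt ((degree_C_mul_X_le cq).trans_lt (by norm_num))
      ((degree_C_le (a := cp)).trans_lt (by norm_num)))
  have hmonic : P.Monic := monic_X_pow_add hdeg
  have hroot : aeval y P = 0 := by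
    simp only [P, cq, cp, map_add, map_sub, map_mul, map_pow, aeval_X, aeval_C, IntermediateField.algebraMap_apply]
    linear_combination heq
  have hint : IsIntegral F y := ⟨P, hmonic, hroot⟩
  have hnd : P.natDegree = 2 := natDegree_eq_of_degree_eq_some
    (((degree_add_eq_left_of_degree_lt (by rwa [degree_X_pow]))).trans (degree_X_pow 2))
  have hnot : y ∉ (algebraMap F K).range := by
    rintro ⟨⟨w, hw⟩, rfl⟩
    obtain ⟨r, s, hrs⟩ := (IntermediateField.mem_adjoin_simple_iff k _).1 hw
    by_cases hs : aeval t s = 0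
    · exact one_ne_zero (hind 0 1 (by simp [hrs, hs])).2
    · refine hs ?_
      obtain ⟨-, h2⟩ := hind (-r) s (by simp [hrs, mul_div_cancel₀ _ hs])
      rw [h2, map_zero]
  have hmin : minpoly F y = P := by
    refine (eq_of_monic_of_dvd_of_natDegree_le (minpoly.monic hint) hmonic (minpoly.dvd F y hroot) ?_).symm
    rw [hnd]
    exact (minpoly.two_le_natDegree_iff hint).2 hnot
  refine ⟨htop, ?_, fun h => ?_⟩
  · rw [← IntermediateField.finrank_top' (F := F) (E := K), ← hEtop, IntermediateField.adjoin.finrank hint, hmin, hnd]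
  · have hne : derivative (minpoly F y) ≠ 0 := fun h0 => by
      rw [hmin] at h0
      simp only [P, derivative_add, derivative_sub, derivative_X_pow, derivative_C, derivative_mul,
        derivative_X] at h0
      rcases h with h | h
      · refine h ?_
        have := congrArg (fun R => R.coeff 0) h0
        simp at this
        exact (hind q 0 (by simpa [cq, Subtype.ext_iff] using this)).1
      · refine h ?_
        have := congrArg (fun R => R.coeff 1) h0
        simp at this
        exact (algebraMap k F).injective (by rw [map_ofNat, map_zero]; exact this)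
    haveI := (IntermediateField.isSeparable_adjoin_simple_iff_isSeparable F K).2
      ((separable_iff_derivative_ne_zero (minpoly.irreducible hint)).2 hne)
    rw [hEtop] at this
    exact Algebra.IsSeparable.of_algHom F (⊤ : IntermediateField F K) IntermediateField.topEquiv.symm.toAlgHom

attribute [local instance] Curv2.stalkAlgebra

variable {k : Type u} [Field k] {X : Scheme.{u}} [IsIntegral X] [X.Over (Spec (CommRingCat.of k))]
  (f : X ⟶ CohB1.ProjSpace 1 k)

/-- The function field of a quadratic equation on the first chart. -/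
theorem functionField_of_equation [IsFinite f] (hdim : topologicalKrullDim X = 1)
    (hf : f ≫ CohB1.ProjSpace.toSpec 1 k = X ↘ Spec (CommRingCat.of k))
    {y : Γ(X, f ⁻¹ᵁ EmbLib24.chart 1 k 0)} (hind : Indep2 (pullChart f 0) y)
    (hspan : ∀ w, InSpan2 (pullChart f 0) y w) {p q : k[X]}
    (heq : y ^ 2 + pullChart f 0 q * y = pullChart f 0 p) :
    ∃ t y' : X.functionField, IntermediateField.adjoin k ({t, y'} : Set X.functionField) = ⊤ ∧
      Module.finrank (IntermediateField.adjoin k ({t} : Set X.functionField)) X.functionField = 2 ∧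
      y' ^ 2 + aeval t q * y' = aeval t p ∧
      ((q ≠ 0 ∨ (2 : k) ≠ 0) →
        Algebra.IsSeparable (IntermediateField.adjoin k ({t} : Set X.functionField)) X.functionField) := by
  let U := f ⁻¹ᵁ EmbLib24.chart 1 k 0
  haveI : Nonempty U := ⟨⟨_, map_generic_mem f hdim 0⟩⟩
  have hU : IsAffineOpen U := (EmbLib24.isAffineOpen_chart 1 k 0).preimage f
  haveI := functionField_isFractionRing_of_isAffineOpen X U hU
  let γ : Γ(X, U) →+* X.functionField := algebraMap Γ(X, U) X.functionField
  let t := γ (pullChart f 0 Polynomial.X)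
  have hπ : ∀ a, γ (pullChart f 0 a) = aeval t a := fun a => by
    refine RingHom.congr_fun (show γ.comp (pullChart f 0) = (aeval t : k[X] →ₐ[k] X.functionField).toRingHom from
      Polynomial.ringHom_ext (fun c => ?_) ?_) a
    · show γ (pullChart f 0 (Polynomial.C c)) = aeval t (Polynomial.C c)
      rw [aeval_C, pullChart_C hf]
      exact EmbLib24.germ_gl _ (map_generic_mem f hdim 0) c
    · show γ (pullChart f 0 Polynomial.X) = aeval t Polynomial.X
      rw [aeval_X]
  have hγ : Function.Injective γ := IsFractionRing.injective Γ(X, U) X.functionField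
  have heq' : γ y ^ 2 + aeval t q * γ y = aeval t p := by
    rw [← hπ, ← hπ, ← map_pow, ← map_mul, ← map_add, heq]
  refine ⟨t, γ y, ?_⟩
  obtain ⟨h1, h2, h3⟩ := field_of_equation (t := t) (y := γ y) (p := p) (q := q) (fun a b hab => hind a b (hγ (by
    rw [map_add, map_mul, map_zero, hπ, hπ]; exact hab))) heq' (fun w => by
    obtain ⟨u, v, -, rfl⟩ := IsFractionRing.div_surjective Γ(X, U) w
    obtain ⟨a, b, rfl⟩ := hspan u
    obtain ⟨c, d, rfl⟩ := hspan v
    exact ⟨a, b, c, d, by simp only [map_add, map_mul, ← hπ]; rfl⟩)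
  exact ⟨h1, h2, heq', h3⟩

omit [X.Over (Spec (CommRingCat.of k))] in
/-- A separable double cover has no equation `y ^ 2 = p` in characteristic two. -/
theorem not_sq_of_separable [IsFinite f] [Flat f] (hdim : topologicalKrullDim X = 1)
    (hsep : letI := (f.residueFieldMap (genericPoint X)).hom.toAlgebra
      Algebra.IsSeparable ((CohB1.ProjSpace 1 k).residueField (f (genericPoint X))) (X.residueField (genericPoint X)))
    (h2 : (2 : k) = 0) {y : Γ(X, f ⁻¹ᵁ EmbLib24.chart 1 k 0)} (hind : Indep2 (pullChart f 0) y) {p : k[X]}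
    (heq : y ^ 2 = pullChart f 0 p) : False := by
  haveI := CurveLib.isIntegral_projSpace k 1
  let P := CohB1.ProjSpace 1 k
  let η := genericPoint X
  let U := EmbLib24.chart 1 k 0
  have hmem : η ∈ f ⁻¹ᵁ U := map_generic_mem f hdim 0
  let κY := P.residueField (f η)
  let κX := X.residueField η
  let _ : Algebra κY κX := (f.residueFieldMap η).hom.toAlgebra
  haveI : Algebra.IsSeparable κY κX := hsep
  let ρ := (P.evaluation U (f η) hmem).hom.comp (P1SC24.chartRing k 0)
  haveI : CharP k 2 := CharTwo.of_one_ne_zero_of_two_eq_zero one_ne_zero h2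
  haveI : CharP κY 2 := charP_of_injective_ringHom (f := ρ.comp Polynomial.C) (ρ.comp Polynomial.C).injective 2
  haveI : ExpChar κY 2 := ExpChar.prime Nat.prime_two
  have hnat : ∀ a, algebraMap κY κX (ρ a) = X.evaluation (f ⁻¹ᵁ U) η hmem (pullChart f 0 a) := fun a =>
    Scheme.evaluation_naturality_apply f η hmem (P1SC24.chartRing k 0 a)
  let ev := (X.evaluation (f ⁻¹ᵁ U) η hmem).hom
  have hmemF : ev y ∈ (⊥ : IntermediateField κY κX) := by
    have h := IntermediateField.mem_adjoin_simple_self κY (ev y)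
    rw [IntermediateField.adjoin_simple_eq_adjoin_pow_expChar_of_isSeparable' κY κX (ev y) 2,
      ← map_pow, heq] at h
    have hb : IntermediateField.adjoin κY ({ev (pullChart f 0 p)} : Set κX) = ⊥ :=
      IntermediateField.adjoin_simple_eq_bot_iff.2 (IntermediateField.mem_bot.2 ⟨ρ p, hnat p⟩)
    rwa [hb] at h
  obtain ⟨u, hu⟩ := IntermediateField.mem_bot.1 hmemF
  have hη : f η = genericPoint P :=
    genericPoint_map_of_finite f hdim (DimLib.PN.topologicalKrullDim_projSpace 1 k).le
  let _ : Algebra Γ(P, U) κY := (P.evaluation U (f η) hmem).hom.toAlgebra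
  haveI : Nonempty U := ⟨⟨_, hmem⟩⟩
  haveI : IsFractionRing Γ(P, U) κY := isFractionRing_evaluation (EmbLib24.isAffineOpen_chart 1 k 0) hmem hη
  obtain ⟨a, b, hb, rfl⟩ := IsFractionRing.div_surjective Γ(P, U) u
  obtain ⟨a, rfl⟩ := (P1SC24.bijective_chartRing k 0).2 a
  obtain ⟨b, rfl⟩ := (P1SC24.bijective_chartRing k 0).2 b
  have hb0 : ρ b ≠ 0 := fun h => nonZeroDivisors.ne_zero hb
    (IsFractionRing.injective Γ(P, U) κY (h.trans (map_zero _).symm))
  let _ : Algebra Γ(X, f ⁻¹ᵁ U) κX := ev.toAlgebra
  haveI : IsFractionRing Γ(X, f ⁻¹ᵁ U) κX :=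
    isFractionRing_evaluation ((EmbLib24.isAffineOpen_chart 1 k 0).preimage f) hmem rfl
  have hu' : ev (pullChart f 0 a) = ev (pullChart f 0 b) * ev y := by
    rw [← hu]
    show _ = ev (pullChart f 0 b) * algebraMap κY κX (ρ a / ρ b)
    rw [show ev (pullChart f 0 b) = algebraMap κY κX (ρ b) from (hnat b).symm,
      show ev (pullChart f 0 a) = algebraMap κY κX (ρ a) from (hnat a).symm, ← map_mul, mul_div_cancel₀ _ hb0]
  obtain ⟨-, h0⟩ := hind (-a) b (IsFractionRing.injective Γ(X, f ⁻¹ᵁ U) κX (by
    show ev _ = ev 0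
    rw [map_add, map_mul, map_zero, map_neg, map_neg, ← hu', neg_add_cancel]))
  exact hb0 (by rw [h0, map_zero])


omit [X.Over (Spec (CommRingCat.of k))] in
/-- A finite morphism to the line of generic degree `n` has rank `n` everywhere. -/
theorem finrank_of_residueDegree [IsFinite f] [Flat f] [LocallyOfFinitePresentation f]
    (hdim : topologicalKrullDim X = 1) {n : ℕ} (hres : f.residueDegree (genericPoint X) = n)
    (z : CohB1.ProjSpace 1 k) : Scheme.Hom.finrank f z = n := by
  haveI := CurveLib.isIntegral_projSpace k 1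
  have hconst : ∀ y, Scheme.Hom.finrank f y = Scheme.Hom.finrank f (genericPoint (CohB1.ProjSpace 1 k)) :=
    fun y => f.isLocallyConstant_finrank.apply_eq_of_preconnectedSpace y _
  rw [hconst, ← (residueDegree_eq_finrank k f hdim hconst).1, hres]

omit [X.Over (Spec (CommRingCat.of k))] in
/-- The equation with the square completed. -/
theorem NormalForm.exists_sq [X.Over (Spec (CommRingCat.of k))] {g : ℕ} (D : NormalForm f g) (hdim : topologicalKrullDim X = 1)
    (hN : Pi1.IsNormalScheme X)
    (hf : f ≫ CohB1.ProjSpace.toSpec 1 k = X ↘ Spec (CommRingCat.of k)) [IsFinite f] (h2 : (2 : k) ≠ 0) :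
    ∃ (D' : NormalForm f g) (p : k[X]), D'.y ^ 2 = pullChart f 0 p ∧
      2 * g + 1 ≤ p.natDegree ∧ p.natDegree ≤ 2 * g + 2 := by
  obtain ⟨p, q, heq, hq, -, -⟩ := D.equation f hdim hN hf
  have hC : ∀ c, ovlHom f 0 (Polynomial.C c) = ovlHom f 1 (Polynomial.C c) := fun c =>
    (ovlHom_C f hf 0 c).trans (ovlHom_C f hf 1 c).symm
  have heq' := congrArg (toOvl f 0) heq
  rw [map_add, map_mul, map_pow] at heq'
  obtain ⟨e1, e2⟩ := complete_square (ovlHom_X f) hC h2 g (q := q) (p := p) heq' hq
  let P := p + (Polynomial.C 2⁻¹ * q) ^ 2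
  let D' : NormalForm f g :=
    { y := D.y + pullChart f 0 (Polynomial.C 2⁻¹ * q)
      z := D.z + pullChart f 1 (Polynomial.C 2⁻¹ * reflect (g + 1) q)
      indep_y := D.indep_y.translate _
      indep_z := D.indep_z.translate _
      span_y := fun w => (D.span_y w).translate _
      span_z := fun w => (D.span_z w).translate _
      rel := by rw [map_add, map_add, D.rel]; exact e2.symm
      indep := by rw [map_add]; exact D.indep.translate _ }
  have hsq : D'.y ^ 2 = pullChart f 0 P := by
    apply toOvl_injective f hdim 0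
    rw [map_pow, show toOvl f 0 D'.y = toOvl f 0 D.y + ovlHom f 0 (Polynomial.C 2⁻¹ * q) from map_add _ _ _]
    exact e1
  obtain ⟨p', q', he, -, hp', hlow⟩ := D'.equation f hdim hN hf
  obtain ⟨h1, h2'⟩ := D'.indep_y.cancel (a := p') (b := -q') (a' := P) (b' := 0)
    (by rw [map_neg, map_zero]; linear_combination hsq - he)
  subst h1
  rw [neg_eq_zero.1 h2', natDegree_zero, mul_zero, max_eq_left (Nat.zero_le _)] at hlow
  exact ⟨D', _, hsq, hlow, hp'⟩

end Groth.Agent.CurveRR24
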