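import Groth.Agent.CurveRR24.DegPull
import Groth.Agent.CurveRR24.DegOneApps
import Groth.Agent.CurveRR24.DegGroup
import Groth.Agent.CurveRR24.GG
import Groth.Agent.EmbLib24.Criterion
import Groth.Agent.P1SC24.Rings

/-! # Morphisms to the line given by two sections -/

set_option autoImplicit false
set_option linter.style.haveILetI false
set_option backward.isDefEq.respectTransparency.types false
set_option maxHeartbeats 1000000

universe u

open CategoryTheory CategoryTheory.Limits AlgebraicGeometry Opposite TopologicalSpace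
open Groth.Agent.Coherent Groth.Agent.PicLib Groth.Agent.AmpleLib Groth.Agent.EulerLib

namespace Groth.Agent.CurveRR24

/-- A finite morphism from a one-dimensional integral scheme sends the generic point to the generic point. -/
theorem genericPoint_map_of_finite {X Y : Scheme.{u}} [IsIntegral X] [IsIntegral Y] (f : X ⟶ Y) [IsFinite f]
    (hX : topologicalKrullDim X = 1) (hY : topologicalKrullDim Y ≤ 1) : f (genericPoint X) = genericPoint Y := by
  refine (CurvesLib24.eq_genericPoint_or_isClosed hY (f (genericPoint X))).resolve_right fun hc => ?_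
  have hall : ∀ x, f x = f (genericPoint X) := fun x =>
    ((genericPoint_specializes x).map f.continuous).mem_closed hc rfl
  have hd := Scheme.Hom.isDiscrete_preimage_singleton f (f (genericPoint X))
  rw [show f ⁻¹' {f (genericPoint X)} = Set.univ from Set.eq_univ_of_forall hall] at hd
  haveI := isDiscrete_univ_iff.1 hd
  have := topologicalKrullDim_zero_of_discreteTopology X
  rw [hX] at this
  exact absurd this (by decide)

variable (k : Type u) [Field k]

/-- Finite morphisms from integral curves to the line are flat. -/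
theorem flat_of_finite {X : Scheme.{u}} [IsIntegral X] (f : X ⟶ CohB1.ProjSpace 1 k) [IsFinite f]
    (hX : topologicalKrullDim X = 1) : Flat f := by
  haveI := CurveLib.isIntegral_projSpace k 1
  have hη := genericPoint_map_of_finite f hX (DimLib.PN.topologicalKrullDim_projSpace 1 k).le
  refine (IsZariskiLocalAtTarget.iff_of_iSup_eq_top (P := @Flat) (EmbLib24.chart 1 k)
    (eq_top_iff.2 fun y _ => ?_)).2 fun j => ?_
  · obtain ⟨j, hj⟩ := EmbLib24.exists_chart_mem y
    exact Opens.mem_iSup.2 ⟨j, hj⟩
  have hU := EmbLib24.isAffineOpen_chart 1 k j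
  haveI : IsAffine (EmbLib24.chart 1 k j : Scheme.{u}) := hU
  haveI : IsAffine (f ⁻¹ᵁ EmbLib24.chart 1 k j : Scheme.{u}) := hU.preimage f
  rw [HasRingHomProperty.iff_of_isAffine (P := @Flat), morphismRestrict_appTop]
  refine RingHom.Flat.respectsIso.1 _ ((X.presheaf.mapIso (eqToIso (by simp)).op).commRingCatIsoToRingEquiv) ?_
  suffices h : ∀ U : (CohB1.ProjSpace 1 k).Opens, U = EmbLib24.chart 1 k j → (f.app U).hom.Flat by
    exact h _ (by simp)
  rintro U rfl
  let B := Γ(X, f ⁻¹ᵁ EmbLib24.chart 1 k j)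
  have h2 : ((f.app (EmbLib24.chart 1 k j)).hom.comp (P1SC24.chartRing k j)).Flat := by
    let _ : Algebra (Polynomial k) B := ((f.app (EmbLib24.chart 1 k j)).hom.comp (P1SC24.chartRing k j)).toAlgebra
    have hmemU : genericPoint (CohB1.ProjSpace 1 k) ∈ EmbLib24.chart 1 k j := by
      obtain ⟨z, hz⟩ : ∃ z, z ∈ EmbLib24.chart 1 k j := by
        by_contra hcon
        push Not at hcon
        haveI : IsEmpty (EmbLib24.chart 1 k j) := ⟨fun x => hcon x.1 x.2⟩
        haveI : Subsingleton Γ(CohB1.ProjSpace 1 k, EmbLib24.chart 1 k j) :=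
          CommRingCat.subsingleton_of_isTerminal (by
            rw [show EmbLib24.chart 1 k j = ⊥ from eq_bot_iff.2 fun x hx => (hcon x hx).elim]
            exact (CohB1.ProjSpace 1 k).sheaf.isTerminalOfEmpty)
        exact zero_ne_one (α := Polynomial k) ((P1SC24.bijective_chartRing k j).1 (Subsingleton.elim _ _))
      exact (genericPoint_specializes z).mem_open (EmbLib24.chart 1 k j).2 hz
    have hmemX : genericPoint X ∈ f ⁻¹ᵁ EmbLib24.chart 1 k j := show f _ ∈ _ from hη ▸ hmemU
    haveI : Nonempty (f ⁻¹ᵁ EmbLib24.chart 1 k j) := ⟨⟨_, hmemX⟩⟩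
    have hinj : Function.Injective (algebraMap (Polynomial k) B) := by
      show Function.Injective ((f.app (EmbLib24.chart 1 k j)).hom ∘ P1SC24.chartRing k j)
      refine Function.Injective.comp (fun a b hab => ?_) (P1SC24.bijective_chartRing k j).1
      refine germ_injective_of_isIntegral (CohB1.ProjSpace 1 k) _ hmemU ?_
      have e : ∀ c, f.stalkMap (genericPoint X) ((CohB1.ProjSpace 1 k).presheaf.germ _ (f (genericPoint X))
          (hη ▸ hmemU) c) = X.presheaf.germ _ (genericPoint X) hmemX (f.app _ c) :=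
        fun c => Scheme.Hom.germ_stalkMap_apply f _ _ hmemX c
      have h3 : (CohB1.ProjSpace 1 k).presheaf.germ (EmbLib24.chart 1 k j) (f (genericPoint X)) (hη ▸ hmemU) a =
          (CohB1.ProjSpace 1 k).presheaf.germ (EmbLib24.chart 1 k j) (f (genericPoint X)) (hη ▸ hmemU) b := by
        haveI : IsDomain (X.presheaf.stalk (genericPoint X)) := inferInstance
        have hF : IsField ((CohB1.ProjSpace 1 k).presheaf.stalk (f (genericPoint X))) := by
          rw [hη]; exact Semifield.toIsField (CohB1.ProjSpace 1 k).functionField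
        letI := hF.toField
        exact (f.stalkMap (genericPoint X)).hom.injective (by rw [e, e, hab])
      have h4 := congrArg ((CohB1.ProjSpace 1 k).presheaf.stalkSpecializes (specializes_of_eq hη.symm)) h3
      rw [TopCat.Presheaf.germ_stalkSpecializes_apply, TopCat.Presheaf.germ_stalkSpecializes_apply] at h4
      exact h4
    haveI : IsDomain B := inferInstance
    haveI : Module.IsTorsionFree (Polynomial k) B := Module.isTorsionFree_iff_algebraMap_injective.2 hinj
    exact RingHom.flat_algebraMap_iff.2 inferInstance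
  have e := RingEquiv.ofBijective (P1SC24.chartRing k j) (P1SC24.bijective_chartRing k j)
  have h4 : (((RingEquiv.ofBijective (P1SC24.chartRing k j) (P1SC24.bijective_chartRing k j)).symm :
      Γ(CohB1.ProjSpace 1 k, EmbLib24.chart 1 k j) ≃+* Polynomial k).toRingHom).Flat :=
    RingHom.Flat.of_bijective (RingEquiv.bijective _)
  have h3 := RingHom.Flat.comp h4 h2
  convert h3 using 1
  ext x
  show _ = (f.app (EmbLib24.chart 1 k j)).hom (P1SC24.chartRing k j _)
  congr 1
  exact ((RingEquiv.ofBijective (P1SC24.chartRing k j) (P1SC24.bijective_chartRing k j)).apply_symm_apply x).symm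

theorem deg_twist_one : letI : (CohB1.ProjSpace 1 k).Over (Spec (CommRingCat.of k)) := ⟨CohB1.ProjSpace.toSpec 1 k⟩
    Curv2.deg k (CohB1.ProjSpace 1 k) (Twist.twistProjSpace 1 k 1) 1 = 1 := by
  haveI : IsProper (CohB1.ProjSpace.toSpec 1 k) := CurveLib.isProper_projSpace k 1
  haveI : IsProper ((CohB1.ProjSpace 1 k) ↘ Spec (CommRingCat.of k)) :=
    inferInstanceAs (IsProper (CohB1.ProjSpace.toSpec 1 k))
  haveI := isNoetherian_of_proper k (X := CohB1.ProjSpace 1 k)
  have h1 : Curv2.euler k _ (Twist.twistProjSpace 1 k 1) = 2 := by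
    rw [euler_eq_sum k _ _ 0 (fun q hq => subsingleton_HH_twist (R := k) (n := 1) (d := 1) q (by omega) (by omega))]
    simp [finrank_projLine_twist_one]
  have h2 : Curv2.euler k _ (Coh.structureModule (CohB1.ProjSpace 1 k)) = 1 := by
    rw [euler_eq_sum k _ _ 0 (fun q hq => subsingleton_HH_structureModule (R := k) (n := 1) q hq)]
    simp [finrank_projLine_structure]
  simp [Curv2.deg, h1, h2]

theorem isInvertible_twist_one : PicF.IsInvertible (Twist.twistProjSpace 1 k 1) :=
  TwistLib.G.isInvertible_twist (UPLib.exists_degOne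
    (UPLib.adjoin_one_eq_top (UPLib.linForm_mem (R := k) 1) (UPLib.isSymmetricAlgebra_linForm 1))) ((1 : ℕ) : ℤ)

theorem genus_of_iso_projLine {X : Scheme.{u}} [X.Over (Spec (CommRingCat.of k))] (e : X ≅ CohB1.ProjSpace 1 k)
    (he : e.hom ≫ CohB1.ProjSpace.toSpec 1 k = X ↘ (Spec (CommRingCat.of k))) : Curv2.genus k X = 0 := by
  haveI : IsProper (CohB1.ProjSpace.toSpec 1 k) := CurveLib.isProper_projSpace k 1
  haveI : IsProper ((CohB1.ProjSpace 1 k) ↘ Spec (CommRingCat.of k)) :=
    inferInstanceAs (IsProper (CohB1.ProjSpace.toSpec 1 k))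
  haveI := isNoetherian_of_proper k (X := CohB1.ProjSpace 1 k)
  have hpb : IsPullback e.hom (X ↘ Spec (CommRingCat.of k))
      ((CohB1.ProjSpace 1 k) ↘ Spec (CommRingCat.of k))
      (Spec.map (CommRingCat.ofHom (algebraMap k k))) := by
    rw [show CommRingCat.ofHom (algebraMap k k) = 𝟙 _ from rfl, Spec.map_id]
    exact IsPullback.of_horiz_isIso ⟨by rw [Category.comp_id]; exact he⟩
  rw [genus_bc hpb]
  haveI := subsingleton_HH_structureModule (R := k) (n := 1) 1 one_pos
  exact Module.finrank_zero_of_subsingleton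

variable {X : Scheme.{u}} [X.Over (Spec (CommRingCat.of k))] [IsProper (X ↘ Spec (CommRingCat.of k))]
  [IsIntegral X]

/-- A degree two invertible module with two sections on a curve of positive genus has no base point. -/
theorem exists_mem_glocus_of_deg_two (hdim : topologicalKrullDim X = 1) (hN : Pi1.IsNormalScheme X)
    (h0 : Module.finrank k (Coh.HH X (Coh.structureModule X) 0) = 1) (hg : 1 ≤ Curv2.genus k X)
    {L : X.Modules} (hL : PicF.IsInvertible L) (hdeg : Curv2.deg k X L 1 = 2)
    (h2 : Module.finrank k (Coh.HH X L 0) = 2) {P : X} (hP : IsClosed ({P} : Set X)) :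
    ∃ s : Γ(L, ⊤), P ∈ glocus L s := by
  refine exists_mem_glocus_of_h0_ne k hP hL fun he => ?_
  let I := ptIdeal P hP
  let M := CohB1.tensorMod L (ClSub.idealMod I)
  have hI := isInvertible_ptIdeal_of_normal k hdim hP (hN P).2
  have hM : PicF.IsInvertible M := AmpleLib.isInvertible_tensorMod hL hI
  let _ := Curv2.resAlgebra k X P
  haveI := finite_resField hP k
  have hd : 0 < Module.finrank k (X.residueField P) := Module.finrank_pos
  have hchi : Curv2.euler k X M = Curv2.euler k X L - (Module.finrank k (X.residueField P) : ℤ) :=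
    euler_tensor_ptIdeal k hP hL
  have hdegM : Curv2.deg k X M 1 = 2 - (Module.finrank k (X.residueField P) : ℤ) := by
    simp only [Curv2.deg, Nat.cast_one, one_mul] at hdeg ⊢
    rw [hchi]; omega
  have hM2 : Module.finrank k (Coh.HH X M 0) = 2 := he.trans h2
  obtain ⟨hge, -, hle⟩ := deg_nonneg_of_section k hdim.le hM (Module.nontrivial_of_finrank_pos (R := k) (by omega))
  rw [hdegM, h0, hM2] at hle
  obtain ⟨e, he'⟩ := exists_iso_projLine k hdim hM (by omega) hM2.ge
  have := genus_of_iso_projLine k e he'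
  omega

/-- The double cover attached to a degree two invertible module with two sections. -/
theorem exists_double_cover (hdim : topologicalKrullDim X = 1) (hN : Pi1.IsNormalScheme X)
    (h0 : Module.finrank k (Coh.HH X (Coh.structureModule X) 0) = 1) (hg : 1 ≤ Curv2.genus k X)
    {L : X.Modules} (hL : PicF.IsInvertible L) (hdeg : Curv2.deg k X L 1 = 2)
    (h2 : Module.finrank k (Coh.HH X L 0) = 2) :
    ∃ (r : X ⟶ CohB1.ProjSpace 1 k) (σ : Fin (1 + 1) → Γ(L, ⊤)) (τ : EmbLib24.pbO r ≅ L),
      r ≫ CohB1.ProjSpace.toSpec 1 k = X ↘ Spec (CommRingCat.of k) ∧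
      (∀ i, τ.hom.app ⊤ (EmbLib24.sig r i) = σ i) ∧
      (∀ j, r ⁻¹ᵁ EmbLib24.chart 1 k j = glocus L (σ j)) ∧
      (∀ c : Fin (1 + 1) → k, ∑ i, ProjUP.toGlobal (X ↘ Spec (CommRingCat.of k)) (c i) • σ i = 0 → c = 0) ∧
      IsFinite r ∧ Flat r ∧ ∀ y, Scheme.Hom.finrank r y = 2 := by
  classical
  haveI := isNoetherian_of_proper k (X := X)
  let q := X ↘ Spec (CommRingCat.of k)
  let φ := baseHom k X
  haveI : Module.Finite k (GA φ L) := Module.finite_of_finrank_pos (by
    rw [← finrank_GA_eq k, h2]; exact two_pos)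
  let bs := Module.finBasisOfFinrankEq k (GA φ L) (by rw [← finrank_GA_eq k, h2] : _ = 2)
  let σ : Fin (1 + 1) → Γ(L, ⊤) := fun i => (show Γ(L, ⊤) from bs i)
  have hindep : ∀ c : Fin (1 + 1) → k, ∑ i, ProjUP.toGlobal q (c i) • σ i = 0 → c = 0 := fun c hc =>
    funext (Fintype.linearIndependent_iff.1 bs.linearIndependent c hc)
  have hspan : ∀ s : Γ(L, ⊤), ∃ c : Fin (1 + 1) → k, ∑ i, ProjUP.toGlobal q (c i) • σ i = s := fun s =>
    ⟨fun i => bs.repr (show GA φ L from s) i, bs.sum_repr (show GA φ L from s)⟩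
  have hgenc : ∀ P : X, IsClosed ({P} : Set X) → ∃ i, P ∈ glocus L (σ i) := fun P hP => by
    by_contra hcon
    push Not at hcon
    obtain ⟨s, hs⟩ := exists_mem_glocus_of_deg_two k hdim hN h0 hg hL hdeg h2 hP
    obtain ⟨c, rfl⟩ := hspan s
    rw [mem_glocus_iff_germ hL, map_sum] at hs
    refine hs (Submodule.sum_mem _ fun i _ => ?_)
    rw [QCohLoc.germ_smul']
    exact Submodule.smul_mem _ _ (not_not.1 ((mem_glocus_iff_germ hL _ P).not.1 (hcon i)))
  have hcov : ∀ x : X, ∃ i, x ∈ glocus L (σ i) := fun x => by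
    obtain ⟨P, hPx, hP⟩ := (isClosed_closure (s := ({x} : Set X))).exists_closed_singleton ⟨x, subset_closure rfl⟩
    obtain ⟨i, hi⟩ := hgenc P hP
    exact ⟨i, (specializes_iff_mem_closure.2 hPx).mem_open (glocus L (σ i)).2 hi⟩
  obtain ⟨r, hr, τ, hτ⟩ := UPLib.exists_hom_projSpace 1 q hL σ hcov
  have hpre : ∀ j, r ⁻¹ᵁ EmbLib24.chart 1 k j = glocus L (σ j) := fun j => by
    rw [EmbLib24.preimage_chart r j, ← glocus_map_iso τ, show τ.hom.app ⊤ (EmbLib24.sig r j) = σ j from hτ j]
  haveI : IsProper (CohB1.ProjSpace.toSpec 1 k) := CurveLib.isProper_projSpace k 1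
  haveI : IsProper (r ≫ CohB1.ProjSpace.toSpec 1 k) := by rw [hr]; infer_instance
  haveI : IsProper r := IsProper.of_comp r (CohB1.ProjSpace.toSpec 1 k)
  have hσ0 : ∀ i, σ i ≠ 0 := fun i => bs.ne_zero i
  have hnogen : ∀ j, ∃ x, x ∉ glocus L (σ j) := fun j => by
    by_contra hall
    push Not at hall
    have hempty : CohB1.support (cokernel (unitDesc L (σ j))) = ∅ :=
      Set.subset_empty_iff.1 fun x hx => support_cokernel_unitDesc (σ j) hx (hall x)
    haveI := mono_unitDesc hL (hσ0 j)
    haveI : Epi (unitDesc L (σ j)) := Abelian.epi_of_cokernel_π_eq_zero _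
      ((isZero_of_support_eq_empty hempty).eq_of_tgt _ _)
    haveI : IsIso (unitDesc L (σ j)) := isIso_of_mono_of_epi _
    rw [← deg_congr k (asIso (unitDesc L (σ j))) 1, deg_structure] at hdeg
    exact absurd hdeg (by norm_num)
  have hfib : ∀ y, (r ⁻¹' {y}).Finite := fun y => by
    by_cases hη : genericPoint X ∈ r ⁻¹' {y}
    · refine (Set.finite_singleton (genericPoint X)).subset fun x hx => ?_
      refine (CurvesLib24.eq_genericPoint_or_isClosed hdim.le x).resolve_right fun hc => ?_
      have hy : IsClosed ({y} : Set (CohB1.ProjSpace 1 k)) := by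
        have := r.isClosedMap _ hc
        rwa [Set.image_singleton, show r x = y from hx] at this
      have hall : ∀ z, r z = y := fun z =>
        ((genericPoint_specializes z).map r.continuous).mem_closed hy hη
      obtain ⟨j, hj⟩ := EmbLib24.exists_chart_mem y
      obtain ⟨z, hz⟩ := hnogen j
      exact hz ((hpre j).le ((hall z).symm ▸ hj : r z ∈ EmbLib24.chart 1 k j))
    · by_cases hy : IsClosed ({y} : Set (CohB1.ProjSpace 1 k))
      · exact (closed_small k hdim.le (hy.preimage r.continuous) hη).1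
      · refine (Set.finite_empty).subset fun x hx => ?_
        rcases CurvesLib24.eq_genericPoint_or_isClosed hdim.le x with h | hc
        · exact hη (h ▸ hx)
        · refine hy ?_
          have := r.isClosedMap _ hc
          rwa [Set.image_singleton, show r x = y from hx] at this
  haveI : LocallyQuasiFinite r := LocallyQuasiFinite.of_finite_preimage_singleton r hfib
  haveI hfin : IsFinite r := IsFinite.of_isProper_of_locallyQuasiFinite r
  haveI hflat : Flat r := flat_of_finite k r hdim
  refine ⟨r, σ, τ, hr, hτ, hpre, hindep, hfin, hflat, fun y => ?_⟩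
  haveI := CurveLib.isIntegral_projSpace k 1
  haveI : IsProper ((CohB1.ProjSpace 1 k) ↘ Spec (CommRingCat.of k)) :=
    inferInstanceAs (IsProper (CohB1.ProjSpace.toSpec 1 k))
  have h := deg_pullback k r hr (DimLib.PN.topologicalKrullDim_projSpace 1 k).le (isInvertible_twist_one k) y
  rw [deg_twist_one, mul_one, deg_congr k τ, hdeg] at h
  exact_mod_cast h.symm

end Groth.Agent.CurveRR24
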