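import Groth.Agent.CurveRR24.DoubleCover.Morphism
import Groth.Agent.CurveRR24.BCProj
import Groth.Agent.H8Lim.UniversallyOpen
import Mathlib.RingTheory.Localization.FractionRing

/-! # Chart rings of double covers; inseparable covers split off a square root -/

set_option autoImplicit false
set_option linter.style.haveILetI false
set_option backward.isDefEq.respectTransparency.types false
set_option maxHeartbeats 1000000

universe u

open CategoryTheory CategoryTheory.Limits AlgebraicGeometry Opposite TopologicalSpace Polynomial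
open Groth.Agent.Coherent Groth.Agent.PicLib Groth.Agent.AmpleLib Groth.Agent.EulerLib

namespace Groth.Agent.CurveRR24

theorem exists_even_odd {K : Type u} [Field K] [CharP K 2] [IsAlgClosed K] (P : K[X]) :
    ∃ A B : K[X], P = A ^ 2 + X * B ^ 2 := by
  induction P using Polynomial.induction_on' with
  | add p q hp hq =>
    obtain ⟨A, B, rfl⟩ := hp
    obtain ⟨A', B', rfl⟩ := hq
    exact ⟨A + A', B + B', by rw [CharTwo.add_sq, CharTwo.add_sq]; ring⟩
  | monomial n c =>
    obtain ⟨d, rfl⟩ := IsAlgClosed.exists_pow_nat_eq c two_pos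
    obtain ⟨m, rfl | rfl⟩ := Nat.even_or_odd' n
    · exact ⟨C d * X ^ m, 0, by rw [← C_mul_X_pow_eq_monomial, mul_pow, ← C_pow]; ring⟩
    · exact ⟨0, C d * X ^ m, by rw [← C_mul_X_pow_eq_monomial, mul_pow, ← C_pow]; ring⟩

/-- If all squares of a normal domain `B ⊋ K[t]` lie in `K[t]`, then `t` is a square in `B`. -/
theorem exists_sq_eq_X {K : Type u} [Field K] [CharP K 2] [IsAlgClosed K] {B : Type u} [CommRing B] [IsDomain B]
    [IsIntegrallyClosed B] (π : K[X] →+* B) (hπ : Function.Injective π) (hns : ¬ Function.Surjective π)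
    (hsq : ∀ b : B, ∃ p, π p = b ^ 2) : ∃ a : B, a ^ 2 = π X := by
  simp only [Function.Surjective, not_forall, not_exists] at hns
  obtain ⟨e, he⟩ := hns
  obtain ⟨P, hP⟩ := hsq e
  obtain ⟨A, C', rfl⟩ := exists_even_odd P
  haveI : CharP B 2 := charP_of_injective_ringHom (f := π.comp Polynomial.C) (hπ.comp Polynomial.C_injective) 2
  have hw : (e - π A) ^ 2 = π X * π C' ^ 2 := by
    rw [CharTwo.sub_eq_add, CharTwo.add_sq, ← hP]
    simp only [map_add, map_mul, map_pow]
    rw [add_right_comm, CharTwo.add_self_eq_zero, zero_add]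
  have hC : π C' ≠ 0 := fun h => he A (by
    rw [h, zero_pow two_ne_zero, mul_zero] at hw
    exact (sub_eq_zero.1 (pow_eq_zero_iff two_ne_zero |>.1 hw)).symm)
  let τ : FractionRing B := algebraMap B _ (e - π A) / algebraMap B _ (π C')
  have hne : algebraMap B (FractionRing B) (π C') ≠ 0 :=
    (map_ne_zero_iff _ (IsFractionRing.injective B (FractionRing B))).2 hC
  have hτ : τ ^ 2 = algebraMap B _ (π X) := by
    rw [div_pow, div_eq_iff (pow_ne_zero 2 hne), ← map_pow, ← map_pow, ← map_mul, hw]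
  have hint : IsIntegral B τ := IsIntegral.of_pow two_pos (hτ ▸ isIntegral_algebraMap)
  obtain ⟨a, ha⟩ := IsIntegrallyClosed.isIntegral_iff.1 hint
  exact ⟨a, IsFractionRing.injective B (FractionRing B) (by rw [map_pow, ha, hτ])⟩

variable {k K : Type u} [Field k] [Field K] [Algebra k K] {X X' : Scheme.{u}} {g : X' ⟶ X}
  {q : X ⟶ Spec (CommRingCat.of k)} {q' : X' ⟶ Spec (CommRingCat.of K)}
  {r : X ⟶ CohB1.ProjSpace 1 k} {r' : X' ⟶ CohB1.ProjSpace 1 K}

/-- `k[t] → Γ(r⁻¹Uⱼ)`. -/
noncomputable def pullChart (r : X ⟶ CohB1.ProjSpace 1 k) (j : Fin (1 + 1)) :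
    k[X] →+* Γ(X, r ⁻¹ᵁ EmbLib24.chart 1 k j) :=
  (r.app (EmbLib24.chart 1 k j)).hom.comp (P1SC24.chartRing k j)

theorem pullChart_C (hr : r ≫ CohB1.ProjSpace.toSpec 1 k = q) (j : Fin (1 + 1)) (c : k) :
    pullChart r j (C c) = EmbLib24.gl q (r ⁻¹ᵁ EmbLib24.chart 1 k j) c := by
  rw [pullChart, RingHom.comp_apply, P1SC24.chartRing_C, Scheme.Hom.app_eq_appLE]
  exact EmbLib24.appLE_gl hr le_rfl c

theorem pullChart_X (j : Fin (1 + 1)) :
    pullChart r j Polynomial.X = r.app (EmbLib24.chart 1 k j) (EmbLib24.coordFun 1 k j j.rev) := by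
  rw [pullChart, RingHom.comp_apply]
  congr 1
  exact congrArg (Proj.awayToSection (CohB1.polyGrading 1 k) _) (Polynomial.eval₂_X _ _)

theorem finrank_pullChart [IsFinite r] [Flat r] {n : ℕ} (hn : ∀ y, Scheme.Hom.finrank r y = n) (j : Fin (1 + 1)) :
    letI := (pullChart r j).toAlgebra
    Module.finrank k[X] Γ(X, r ⁻¹ᵁ EmbLib24.chart 1 k j) = n ∧
      Module.Free k[X] Γ(X, r ⁻¹ᵁ EmbLib24.chart 1 k j) ∧ Module.Finite k[X] Γ(X, r ⁻¹ᵁ EmbLib24.chart 1 k j) := by
  let U := EmbLib24.chart 1 k j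
  let B := Γ(X, r ⁻¹ᵁ U)
  let _ : Algebra k[X] B := (pullChart r j).toAlgebra
  have hU := EmbLib24.isAffineOpen_chart 1 k j
  have hV : IsAffineOpen (r ⁻¹ᵁ U) := hU.preimage r
  have sq : IsPullback hV.fromSpec (Spec.map (r.app U)) r hU.fromSpec := by
    refine (IsOpenImmersion.isPullback _ _ _ _ ?_ ?_).flip
    · rw [← IsAffineOpen.SpecMap_appLE_fromSpec r hU hV le_rfl, Scheme.Hom.app_eq_appLE]
    · rw [hU.opensRange_fromSpec, hV.opensRange_fromSpec]
  let e := CommRingCat.ofHom (P1SC24.chartRing k j)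
  haveI : IsIso e := (ConcreteCategory.isIso_iff_bijective _).2 (P1SC24.bijective_chartRing k j)
  have sq2 : IsPullback hV.fromSpec (Spec.map (CommRingCat.ofHom (algebraMap k[X] B))) r
      (inv (Spec.map e) ≫ hU.fromSpec) := by
    have h2 : IsPullback (𝟙 (Spec B)) (Spec.map (CommRingCat.ofHom (algebraMap k[X] B)))
        (Spec.map (r.app U)) (inv (Spec.map e)) := by
      refine IsPullback.of_horiz_isIso ⟨?_⟩
      rw [Category.id_comp, IsIso.eq_comp_inv, ← Spec.map_comp]
      rfl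
    simpa using h2.paste_horiz sq
  haveI hfin : Module.Finite k[X] B :=
    (r.finite_app _ hU).comp (RingHom.Finite.of_surjective _ (P1SC24.bijective_chartRing k j).2)
  haveI : Module.Flat k[X] B := by
    rw [← RingHom.flat_algebraMap_iff]
    exact Flat.SpecMap_iff.1 (MorphismProperty.of_isPullback (P := @Flat) sq2 ‹Flat r›)
  haveI hfree : Module.Free k[X] B := Module.free_of_finite_type_torsion_free'
  refine ⟨?_, hfree, hfin⟩
  let p : PrimeSpectrum k[X] := Classical.arbitrary _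
  have := Scheme.Hom.finrank_of_isPullback _ _ _ _ sq2 p
  rw [hn] at this
  have h3 := (Scheme.Hom.finrank_SpecMap_algebraMap k[X] B p).symm.trans this
  rw [Module.rankAtStalk_eq_finrank_of_free] at h3
  exact h3

theorem not_surjective_pullChart [IsFinite r] [Flat r] (hn : ∀ y, Scheme.Hom.finrank r y = 2) (j : Fin (1 + 1)) :
    ¬ Function.Surjective (pullChart r j) ∧ Function.Injective (pullChart r j) := by
  let B := Γ(X, r ⁻¹ᵁ EmbLib24.chart 1 k j)
  let _ : Algebra k[X] B := (pullChart r j).toAlgebra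
  obtain ⟨hr2, hfree, hfin⟩ := finrank_pullChart hn j
  haveI := hfree; haveI := hfin
  refine ⟨fun hs => ?_, ?_⟩
  · have h := finrank_le_one (R := k[X]) (1 : B) fun z => (hs z).imp fun c hc => by
      rw [Algebra.smul_def, mul_one]; exact hc
    rw [hr2] at h
    omega
  · haveI : Nontrivial B := Module.nontrivial_of_finrank_pos (R := k[X]) (by rw [hr2]; exact two_pos)
    exact FaithfulSMul.algebraMap_injective k[X] B

theorem preimage_chart_bc {r : X ⟶ CohB1.ProjSpace 1 k} {r' : X' ⟶ CohB1.ProjSpace 1 K}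
    (hsq : r' ≫ projBC k K 1 = g ≫ r) (j : Fin (1 + 1)) :
    g ⁻¹ᵁ (r ⁻¹ᵁ EmbLib24.chart 1 k j) = r' ⁻¹ᵁ EmbLib24.chart 1 K j := by
  rw [← Scheme.Hom.comp_preimage, ← hsq, Scheme.Hom.comp_preimage, projBC_preimage_chart]

theorem pullChart_bc (h : IsPullback g q' q (Spec.map (CommRingCat.ofHom (algebraMap k K))))
    (hr : r ≫ CohB1.ProjSpace.toSpec 1 k = q) (hr' : r' ≫ CohB1.ProjSpace.toSpec 1 K = q')
    (hsq : r' ≫ projBC k K 1 = g ≫ r) (j : Fin (1 + 1)) (p : k[X]) :
    g.appLE _ _ (preimage_chart_bc hsq j).ge (pullChart r j p) = pullChart r' j (p.map (algebraMap k K)) := by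
  have := RingHom.congr_fun (show ((g.appLE _ _ (preimage_chart_bc hsq j).ge).hom.comp (pullChart r j)) =
      (pullChart r' j).comp (Polynomial.mapRingHom (algebraMap k K)) from ?_) p
  · exact this
  refine Polynomial.ringHom_ext (fun c => ?_) ?_
  · simp only [RingHom.comp_apply, Polynomial.coe_mapRingHom, Polynomial.map_C]
    rw [pullChart_C hr, pullChart_C hr']
    refine (EmbLib24.appLE_gl h.w _ c).trans ?_
    show _ = X'.presheaf.map _ (ProjUP.toGlobal q' (algebraMap k K c))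
    simp only [EmbLib24.gl, RingHom.comp_apply]
    congr 1
    show (q' ≫ Spec.map (CommRingCat.ofHom (algebraMap k K))).appTop _ = q'.appTop _
    rw [Scheme.Hom.comp_appTop, ConcreteCategory.comp_apply]
    congr 1
    exact (ConcreteCategory.congr_hom (Scheme.ΓSpecIso_inv_naturality (CommRingCat.ofHom (algebraMap k K))) c).symm
  · simp only [RingHom.comp_apply, Polynomial.coe_mapRingHom, Polynomial.map_X]
    rw [pullChart_X, pullChart_X, Scheme.Hom.app_eq_appLE, Scheme.Hom.app_eq_appLE]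
    have e2 := congrArg (r'.appLE (EmbLib24.chart 1 K j) _ le_rfl) (appLE_coordFun_bc (k := k) (K := K) j j.rev)
    rw [← e2, ← ConcreteCategory.comp_apply, ← ConcreteCategory.comp_apply,
      Scheme.Hom.appLE_comp_appLE, Scheme.Hom.appLE_comp_appLE]
    simp only [hsq]

theorem sq_mem_bc [Flat (Spec.map (CommRingCat.ofHom (algebraMap k K)))] [CharP K 2]
    (h : IsPullback g q' q (Spec.map (CommRingCat.ofHom (algebraMap k K)))) [IsAffineHom r]
    (hr : r ≫ CohB1.ProjSpace.toSpec 1 k = q) (hr' : r' ≫ CohB1.ProjSpace.toSpec 1 K = q')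
    (hsq : r' ≫ projBC k K 1 = g ≫ r) (j : Fin (1 + 1)) [IsAlgClosed K]
    (hall : ∀ b, ∃ p, pullChart r j p = b ^ 2) (b' : Γ(X', r' ⁻¹ᵁ EmbLib24.chart 1 K j)) :
    ∃ p, pullChart r' j p = b' ^ 2 := by
  let V := r ⁻¹ᵁ EmbLib24.chart 1 k j
  have hV : IsAffineOpen V := (EmbLib24.isAffineOpen_chart 1 k j).preimage r
  have hW := preimage_chart_bc hsq j
  have hi := isIso_pushoutSection_of_isQuasiSeparated_of_flat_right h (US := ⊤) (UT := ⊤) (UX := V)
    (UY := r' ⁻¹ᵁ EmbLib24.chart 1 K j) (by simp) (by simp) (by simp [← hW, V]) (isAffineOpen_top _)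
    (isAffineOpen_top _) hV.isCompact hV.isQuasiSeparated
  obtain ⟨n, -, a, c, rfl⟩ := H8Lim.exists_sum_mul_of_isPushout ((isIso_pushoutSection_iff ..).1 hi) b'
  have htwo : (2 : Γ(X', r' ⁻¹ᵁ EmbLib24.chart 1 K j)) = 0 := by
    rw [← map_ofNat ((pullChart r' j).comp Polynomial.C) 2, CharTwo.two_eq_zero, map_zero]
  have key : ∀ i, ∃ p, pullChart r' j p = ((g.appLE V (r' ⁻¹ᵁ EmbLib24.chart 1 K j) hW.ge).hom (a i) *
      (q'.appLE ⊤ (r' ⁻¹ᵁ EmbLib24.chart 1 K j) le_top).hom (c i)) ^ 2 := fun i => by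
    obtain ⟨p, hp⟩ := hall (a i)
    refine ⟨p.map (algebraMap k K) * C (((Scheme.ΓSpecIso (CommRingCat.of K)).hom (c i)) ^ 2), ?_⟩
    rw [map_mul, mul_pow, ← pullChart_bc h hr hr' hsq j p, hp, map_pow, pullChart_C hr', map_pow]
    congr 2
    simp only [EmbLib24.gl, RingHom.comp_apply, ProjUP.toGlobal]
    erw [show (Scheme.ΓSpecIso (CommRingCat.of K)).inv ((Scheme.ΓSpecIso (CommRingCat.of K)).hom (c i)) = c i from
      ConcreteCategory.congr_hom (Scheme.ΓSpecIso (CommRingCat.of K)).hom_inv_id (c i)]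
    rfl
  choose p hp using key
  refine ⟨∑ i, p i, ?_⟩
  rw [map_sum]
  simp only [hp]
  induction (Finset.univ : Finset (Fin n)) using Finset.induction_on with
  | empty => simp
  | insert i s hi hs =>
    rw [Finset.sum_insert hi, Finset.sum_insert hi, hs, add_sq, htwo, zero_mul, zero_mul, add_zero]

end Groth.Agent.CurveRR24
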